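import Mathlib

/-! On a finitely generated domain over `ℂ`, the points where a nonzero element does not vanish are dense among all
points for the topology of pointwise convergence. -/

set_option autoImplicit false

open Polynomial Topology

namespace Groth.Agent.AnPts

noncomputable section

theorem norm_root_le {p : ℂ[X]} (hp : p.Monic) {t : ℂ} (ht : p.eval t = 0) :
    ‖t‖ ≤ 1 + ∑ i ∈ Finset.range p.natDegree, ‖p.coeff i‖ := by
  have hs : (0 : ℝ) ≤ ∑ i ∈ Finset.range p.natDegree, ‖p.coeff i‖ := Finset.sum_nonneg fun i _ => norm_nonneg _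
  rcases le_or_gt ‖t‖ 1 with h1 | h1
  · linarith
  rcases Nat.eq_zero_or_pos p.natDegree with h0 | h0
  · rw [hp.natDegree_eq_zero.1 h0] at ht
    simp at ht
  obtain ⟨m, hm⟩ := Nat.exists_eq_add_of_le' h0
  rw [eval_eq_sum_range, Finset.sum_range_succ, hp.coeff_natDegree, one_mul] at ht
  have h2 : ‖t‖ ^ (m + 1) ≤ (∑ i ∈ Finset.range p.natDegree, ‖p.coeff i‖) * ‖t‖ ^ m := by
    rw [← norm_pow, ← hm, eq_neg_of_add_eq_zero_right ht, norm_neg, Finset.sum_mul]
    refine (norm_sum_le _ _).trans (Finset.sum_le_sum fun i hi => ?_)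
    rw [norm_mul, norm_pow]
    exact mul_le_mul_of_nonneg_left (pow_le_pow_right₀ h1.le (by have := Finset.mem_range.1 hi; omega)) (norm_nonneg _)
  rw [pow_succ'] at h2
  linarith [le_of_mul_le_mul_right h2 (pow_pos (lt_trans one_pos h1) m)]

theorem exists_root_norm_pow_le {p : ℂ[X]} (hp : p.Monic) (hd : 0 < p.natDegree) :
    ∃ t, p.eval t = 0 ∧ ‖t‖ ^ p.natDegree ≤ ‖p.coeff 0‖ := by
  by_contra h
  push Not at h
  have hs := IsAlgClosed.splits p
  have hc := congrArg norm (hs.coeff_zero_eq_prod_roots_of_monic hp)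
  rw [norm_mul, norm_pow, norm_neg, norm_one, one_pow, one_mul] at hc
  have hr : ∀ t ∈ p.roots, ‖p.coeff 0‖ < ‖t‖ ^ p.natDegree := fun t ht => h t (mem_roots'.1 ht).2
  rcases (norm_nonneg (p.coeff 0)).lt_or_eq with hpos | hzero
  · have h1 : ‖p.coeff 0‖ ^ p.natDegree < ‖p.roots.prod‖ ^ p.natDegree := by
      have hn : ‖p.roots.prod‖ = (p.roots.map fun t => ‖t‖).prod := map_multiset_prod (normHom : ℂ →*₀ ℝ) _
      rw [hn, ← Multiset.prod_map_pow]
      calc ‖p.coeff 0‖ ^ p.natDegree = (p.roots.map fun _ => ‖p.coeff 0‖).prod := by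
            rw [Multiset.map_const', Multiset.prod_replicate, hs.natDegree_eq_card_roots]
        _ < _ := Multiset.prod_map_lt_prod_map
            (by intro he; rw [hs.natDegree_eq_card_roots, he] at hd; simp at hd)
            (fun _ => ‖p.coeff 0‖) _ (fun _ _ => hpos) hr
    rw [← hc] at h1
    exact lt_irrefl _ h1
  · have : p.eval 0 = 0 := by rw [← coeff_zero_eq_eval_zero]; exact norm_eq_zero.1 hzero.symm
    have := h 0 this
    rw [norm_zero, zero_pow hd.ne'] at this
    exact absurd this (not_lt.2 (norm_nonneg _))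

variable {R A : Type*} [CommRing R] [CommRing A] [Algebra R A]

theorem minpoly_coeff_zero_ne_zero [IsDomain R] [IsDomain A] {h : A} (hi : IsIntegral R h) (h0 : h ≠ 0) :
    (minpoly R h).coeff 0 ≠ 0 := by
  intro hc
  obtain ⟨q, hq⟩ := X_dvd_iff.2 hc
  have hqm : q.Monic := monic_X.of_mul_monic_left (hq ▸ minpoly.monic hi)
  have hq0 : aeval h q = 0 := by
    have := minpoly.aeval R h
    rw [hq, map_mul, aeval_X] at this
    exact (mul_eq_zero.1 this).resolve_left h0
  have h1 := minpoly.min R h hqm hq0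
  rw [hq, degree_mul, degree_X, degree_eq_natDegree hqm.ne_zero] at h1
  norm_cast at h1
  omega

theorem coeff_zero_eq_zero_of_aeval {S : Type*} [CommRing S] (f : A →+* S) {h : A} {q : R[X]} (hq : aeval h q = 0)
    (hf : f h = 0) : f (algebraMap R A (q.coeff 0)) = 0 := by
  have := congrArg f hq
  rw [map_zero, aeval_def, hom_eval₂, hf, eval₂_at_zero] at this
  exact this

variable [Algebra ℂ A] [Algebra.FiniteType ℂ A]

/-- Homomorphisms to `ℂ` of a finitely generated `ℂ`-algebra with the same kernel are equal. -/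
theorem exists_algHom_of_isMaximal (Q : Ideal A) [Q.IsMaximal] : ∃ ψ : A →ₐ[ℂ] ℂ, RingHom.ker ψ = Q := by
  haveI : Algebra.FiniteType ℂ (A ⧸ Q) := Algebra.FiniteType.of_surjective (Ideal.Quotient.mkₐ ℂ Q) Ideal.Quotient.mk_surjective
  letI := Ideal.Quotient.field Q
  haveI : Module.Finite ℂ (A ⧸ Q) := finite_of_finite_type_of_isJacobsonRing ℂ (A ⧸ Q)
  let e : ℂ ≃ₐ[ℂ] A ⧸ Q := AlgEquiv.ofBijective (Algebra.ofId ℂ (A ⧸ Q))
    (IsAlgClosed.algebraMap_bijective_of_isIntegral)
  refine ⟨e.symm.toAlgHom.comp (Ideal.Quotient.mkₐ ℂ Q), ?_⟩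
  ext a
  simp [RingHom.mem_ker, Ideal.Quotient.eq_zero_iff_mem]

variable {d : ℕ} [Algebra (MvPolynomial (Fin d) ℂ) A] [IsScalarTower ℂ (MvPolynomial (Fin d) ℂ) A]
  [Module.Finite (MvPolynomial (Fin d) ℂ) A] [IsDomain A]

local notation "P" => MvPolynomial (Fin d) ℂ

/-- The homomorphisms to `ℂ` inside the product space. -/
def homSet (A : Type*) [CommRing A] [Algebra ℂ A] : Set (A → ℂ) := Set.range fun (ψ : A →ₐ[ℂ] ℂ) => (ψ : A → ℂ)

omit [Algebra.FiniteType ℂ A] [Algebra (MvPolynomial (Fin d) ℂ) A] [IsScalarTower ℂ (MvPolynomial (Fin d) ℂ) A]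
  [Module.Finite (MvPolynomial (Fin d) ℂ) A] [IsDomain A] in
theorem isClosed_homSet : IsClosed (homSet A) := by
  have : homSet A = {f | f 1 = 1 ∧ (∀ a b, f (a * b) = f a * f b) ∧ (∀ a b, f (a + b) = f a + f b) ∧
      ∀ c, f (algebraMap ℂ A c) = c} := by
    ext f
    constructor
    · rintro ⟨ψ, rfl⟩
      exact ⟨map_one ψ, map_mul ψ, map_add ψ, ψ.commutes⟩
    · rintro ⟨h1, hm, ha, hc⟩
      exact ⟨{ toFun := f, map_one' := h1, map_mul' := hm, map_zero' := by simpa using hc 0, map_add' := ha,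
                commutes' := hc }, rfl⟩
  rw [this]
  simp only [Set.ofPred_and, Set.ofPred_forall]
  exact (isClosed_eq (continuous_apply _) continuous_const).inter
    ((isClosed_iInter fun a => isClosed_iInter fun b =>
      isClosed_eq (continuous_apply (a * b)) ((continuous_apply a).mul (continuous_apply b))).inter
    ((isClosed_iInter fun a => isClosed_iInter fun b =>
      isClosed_eq (continuous_apply (a + b)) ((continuous_apply a).add (continuous_apply b))).inter
    (isClosed_iInter fun c => isClosed_eq (continuous_apply (algebraMap ℂ A c)) continuous_const)))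

/-- The coordinates of a point over the Noether normalisation. -/
def coords (f : A → ℂ) : Fin d → ℂ := fun i => f (algebraMap P A (MvPolynomial.X i))

omit [Algebra.FiniteType ℂ A] [Module.Finite (MvPolynomial (Fin d) ℂ) A] [IsDomain A] in
theorem apply_algebraMap (ψ : A →ₐ[ℂ] ℂ) (p : P) :
    ψ (algebraMap P A p) = MvPolynomial.eval (coords (d := d) (ψ : A → ℂ)) p := by
  have h1 : ψ.comp (IsScalarTower.toAlgHom ℂ P A) = MvPolynomial.aeval (coords (d := d) (ψ : A → ℂ)) :=
    MvPolynomial.algHom_ext fun i => by simp [coords]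
  exact (AlgHom.congr_fun h1 p).trans (congrArg (fun F : MvPolynomial (Fin d) ℂ → ℂ => F p) (funext fun q => rfl))

omit [Algebra.FiniteType ℂ A] [IsDomain A] in
theorem eval_minpoly (ψ : A →ₐ[ℂ] ℂ) (a : A) :
    ((minpoly P a).map (MvPolynomial.eval (coords (d := d) (ψ : A → ℂ)))).eval (ψ a) = 0 := by
  have h1 : (ψ : A →+* ℂ).comp (algebraMap P A) = MvPolynomial.eval (coords (d := d) (ψ : A → ℂ)) :=
    RingHom.ext fun p => apply_algebraMap ψ p
  rw [eval_map, ← h1]
  have := congrArg ψ (minpoly.aeval P a)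
  rw [map_zero, aeval_def] at this
  rw [← this]
  exact (hom_eval₂ _ _ (ψ : A →+* ℂ) _).symm

/-- Lift a point of `P` and a root of the minimal polynomial of `h` to a point of `A`. -/
theorem exists_lift [Algebra.FiniteType ℂ A] (hinj : Function.Injective (algebraMap P A)) (h : A) (v : Fin d → ℂ)
    (t : ℂ) (ht : ((minpoly P h).map (MvPolynomial.eval v)).eval t = 0) :
    ∃ ψ : A →ₐ[ℂ] ℂ, coords (d := d) (ψ : A → ℂ) = v ∧ ψ h = t := by
  haveI : Module.IsTorsionFree P A :=
    Module.isTorsionFree_iff_smul_eq_zero.2 fun r a hra => by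
      rw [Algebra.smul_def, mul_eq_zero, map_eq_zero_iff _ hinj] at hra
      exact hra
  have hi : IsIntegral P h := Algebra.IsIntegral.isIntegral h
  let B := Algebra.adjoin P ({h} : Set A)
  let χ₀ : AdjoinRoot (minpoly P h) →+* ℂ :=
    AdjoinRoot.lift (MvPolynomial.eval v) t (by rw [← eval_map]; exact ht)
  let χ : B →+* ℂ := χ₀.comp (minpoly.equivAdjoin hi).symm.toRingHom
  have hχP : ∀ p : P, χ (algebraMap P B p) = MvPolynomial.eval v p := fun p => by
    simp [χ, χ₀, B, AdjoinRoot.algebraMap_eq]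
  have hχh : χ ⟨h, Algebra.subset_adjoin rfl⟩ = t := by
    have he : minpoly.equivAdjoin hi (AdjoinRoot.root (minpoly P h)) = ⟨h, Algebra.subset_adjoin rfl⟩ := by
      refine Subtype.ext ?_
      rw [show minpoly.equivAdjoin hi (AdjoinRoot.root (minpoly P h)) = AdjoinRoot.Minpoly.toAdjoin P h (AdjoinRoot.root (minpoly P h)) from rfl]
      simp [AdjoinRoot.Minpoly.toAdjoin]
    rw [← he]
    change χ₀ ((minpoly.equivAdjoin hi).symm (minpoly.equivAdjoin hi (AdjoinRoot.root (minpoly P h)))) = t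
    rw [AlgEquiv.symm_apply_apply]
    exact AdjoinRoot.lift_root _
  have hsurj : Function.Surjective χ := fun c => ⟨algebraMap P B (MvPolynomial.C c), by simp [hχP]⟩
  haveI : (RingHom.ker χ).IsMaximal := RingHom.ker_isMaximal_of_surjective χ hsurj
  haveI : Algebra.IsIntegral B A := Algebra.IsIntegral.tower_top P
  obtain ⟨Q, hQm, hQo⟩ := Ideal.exists_maximal_ideal_liesOver_of_isIntegral (S := A) (RingHom.ker χ)
  obtain ⟨ψ, hψ⟩ := exists_algHom_of_isMaximal Q
  have hval : ∀ b : B, ψ (b : A) = χ b := by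
    intro b
    have hmem : b - algebraMap P B (MvPolynomial.C (χ b)) ∈ RingHom.ker χ := by
      simp [RingHom.mem_ker, hχP]
    rw [hQo.over, Ideal.mem_comap, ← hψ, RingHom.mem_ker, map_sub, map_sub] at hmem
    have hC : ψ (algebraMap B A (algebraMap P B (MvPolynomial.C (χ b)))) = χ b := by
      rw [← IsScalarTower.algebraMap_apply P B A, ← MvPolynomial.algebraMap_eq, ← IsScalarTower.algebraMap_apply ℂ P A]
      exact ψ.commutes _
    rw [hC, sub_eq_zero] at hmem
    exact hmem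
  refine ⟨ψ, funext fun i => ?_, ?_⟩
  · refine (hval (algebraMap P B (MvPolynomial.X i))).trans ?_
    rw [hχP, MvPolynomial.eval_X]
  · exact (hval ⟨h, Algebra.subset_adjoin rfl⟩).trans hχh

omit [Algebra.FiniteType ℂ A] [IsDomain A] in
theorem isCompact_homSet_over (v₀ : Fin d → ℂ) :
    IsCompact (homSet A ∩ coords (d := d) ⁻¹' Metric.closedBall v₀ 1) := by
  have hB : ∀ a : A, ∃ C : ℝ, ∀ ψ : A →ₐ[ℂ] ℂ, coords (d := d) (ψ : A → ℂ) ∈ Metric.closedBall v₀ 1 → ‖ψ a‖ ≤ C := by
    intro a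
    let F : (Fin d → ℂ) → ℝ := fun v => 1 + ∑ i ∈ Finset.range (minpoly P a).natDegree, ‖MvPolynomial.eval v ((minpoly P a).coeff i)‖
    have hF : Continuous F := continuous_const.add (continuous_finsetSum _ fun i _ => (MvPolynomial.continuous_eval _).norm)
    obtain ⟨C, hC⟩ := (isCompact_closedBall v₀ 1).bddAbove_image hF.continuousOn
    refine ⟨C, fun ψ hψ => le_trans ?_ (hC ⟨_, hψ, rfl⟩)⟩
    have hm := (minpoly.monic (Algebra.IsIntegral.isIntegral (R := P) a))
    refine (norm_root_le (hm.map (MvPolynomial.eval (coords (d := d) (ψ : A → ℂ)))) (eval_minpoly ψ a)).trans ?_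
    simp only [F, coeff_map, hm.natDegree_map]
    exact le_rfl
  choose C hC using hB
  refine (isCompact_univ_pi fun a => isCompact_closedBall (0 : ℂ) (C a)).of_isClosed_subset
    (isClosed_homSet.inter (Metric.isClosed_closedBall.preimage (continuous_pi fun i => continuous_apply _))) ?_
  rintro _ ⟨⟨ψ, rfl⟩, hv⟩ a -
  simpa using hC a ψ hv

omit [Algebra.FiniteType ℂ A] [IsDomain A] in
theorem finite_fibre (v : Fin d → ℂ) : {ψ : A →ₐ[ℂ] ℂ | coords (d := d) (ψ : A → ℂ) = v}.Finite := by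
  obtain ⟨s, hs⟩ := (inferInstance : Module.Finite P A).fg_top
  refine Set.Finite.of_finite_image (f := fun ψ : A →ₐ[ℂ] ℂ => fun a : s => ψ a) ?_ ?_
  · refine (Set.Finite.pi fun a : s => (((minpoly P (a : A)).map (MvPolynomial.eval v)).rootSet_finite ℂ)).subset ?_
    rintro _ ⟨ψ, hψ, rfl⟩ a -
    have hm := (minpoly.monic (Algebra.IsIntegral.isIntegral (R := P) (a : A))).map (MvPolynomial.eval v)
    rw [mem_rootSet_of_ne hm.ne_zero]
    simp only [coe_aeval_eq_eval]
    rw [← hψ]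
    exact eval_minpoly ψ a
  · intro ψ hψ ψ' hψ' he
    refine AlgHom.ext fun a => ?_
    have : a ∈ Submodule.span P (s : Set A) := hs ▸ trivial
    induction this using Submodule.span_induction with
    | mem x hx => exact congrFun he ⟨x, hx⟩
    | zero => simp
    | add x y _ _ hx hy => simp [hx, hy]
    | smul p x _ hx =>
      rw [Algebra.smul_def, map_mul, map_mul, apply_algebraMap, apply_algebraMap, hψ, hψ', hx]

/-- Density, given a Noether normalisation. -/
theorem mem_closure_ne_zero_aux (hinj : Function.Injective (algebraMap P A)) {g : A} (hg : g ≠ 0) (φ : A →ₐ[ℂ] ℂ) :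
    (φ : A → ℂ) ∈ closure (homSet A ∩ {f | f g ≠ 0}) := by
  classical
  haveI : Algebra.IsIntegral P A := Algebra.IsIntegral.of_finite P A
  let v₀ := coords (d := d) (φ : A → ℂ)
  let T : Finset (A →ₐ[ℂ] ℂ) := (finite_fibre (A := A) v₀).toFinset.erase φ
  obtain ⟨h, hh, hh'⟩ : ∃ h : A, φ h = 0 ∧ ∀ ψ ∈ T, ψ h ≠ 0 := by
    haveI : (RingHom.ker φ).IsMaximal := RingHom.ker_isMaximal_of_surjective φ fun c => ⟨algebraMap ℂ A c, φ.commutes c⟩
    by_contra hcon
    push Not at hcon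
    have hsub : ((RingHom.ker φ : Ideal A) : Set A) ⊆ ⋃ ψ ∈ (↑T : Set (A →ₐ[ℂ] ℂ)), ((RingHom.ker ψ : Ideal A) : Set A) := by
      intro a ha
      obtain ⟨ψ, hψ, hψa⟩ := hcon a ha
      exact Set.mem_biUnion hψ hψa
    obtain ⟨ψ, hψ, hle⟩ := (Ideal.subset_union_prime φ φ fun ψ _ _ _ => RingHom.ker_isPrime ψ).1 hsub
    refine (Finset.mem_erase.1 hψ).1 (AlgHom.ext fun a => ?_)
    have := hle (show a - algebraMap ℂ A (φ a) ∈ RingHom.ker φ by simp [RingHom.mem_ker, map_sub])
    rw [RingHom.mem_ker, map_sub, ψ.commutes] at this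
    exact sub_eq_zero.1 this
  by_cases hgφ : φ g ≠ 0
  · exact subset_closure ⟨⟨φ, rfl⟩, hgφ⟩
  push Not at hgφ
  obtain ⟨h, hh0, hh, hh'⟩ : ∃ h : A, h ≠ 0 ∧ φ h = 0 ∧ ∀ ψ ∈ T, ψ h ≠ 0 := by
    rcases eq_or_ne h 0 with rfl | hh0
    · exact ⟨g, hg, hgφ, fun ψ hψ => absurd (map_zero ψ) (hh' ψ hψ)⟩
    · exact ⟨h, hh0, hh, hh'⟩
  by_contra hφ
  let K := homSet A ∩ coords (d := d) ⁻¹' Metric.closedBall v₀ 1
  let E := closure (homSet A ∩ {f : A → ℂ | f g ≠ 0}) ∩ K
  let Φ : (A → ℂ) → (Fin d → ℂ) × ℂ := fun f => (coords (d := d) f, f h)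
  have hΦc : Continuous Φ := (continuous_pi fun i => continuous_apply _).prodMk (continuous_apply h)
  have hE : IsClosed (Φ '' E) := (((isCompact_homSet_over v₀).inter_left isClosed_closure).image hΦc).isClosed
  have hnot : (v₀, (0 : ℂ)) ∉ Φ '' E := by
    rintro ⟨_, ⟨hcl, ⟨ψ, rfl⟩, -⟩, he⟩
    obtain ⟨h1, h2⟩ := Prod.ext_iff.1 he
    refine hh' ψ (Finset.mem_erase.2 ⟨?_, (finite_fibre v₀).mem_toFinset.2 h1⟩) h2
    rintro rfl
    exact hφ hcl
  let q := minpoly P h
  have hqm : q.Monic := minpoly.monic (Algebra.IsIntegral.isIntegral h)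
  have hqd : 0 < q.natDegree := minpoly.natDegree_pos (Algebra.IsIntegral.isIntegral h)
  let G := (minpoly P g).coeff 0
  have hG : G ≠ 0 := minpoly_coeff_zero_ne_zero (Algebra.IsIntegral.isIntegral g) hg
  have hc0 : MvPolynomial.eval v₀ (q.coeff 0) = 0 := by
    rw [← apply_algebraMap φ]
    exact coeff_zero_eq_zero_of_aeval (φ : A →+* ℂ) (minpoly.aeval P h) hh
  refine hnot (hE.closure_subset (Metric.mem_closure_iff.2 fun ε hε => ?_))
  have hcont : ContinuousAt (fun v : Fin d → ℂ => MvPolynomial.eval v (q.coeff 0)) v₀ :=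
    (MvPolynomial.continuous_eval _).continuousAt
  obtain ⟨δ, hδ, hδ'⟩ := Metric.continuousAt_iff.1 hcont ((ε / 2) ^ q.natDegree) (pow_pos (half_pos hε) _)
  let r := min δ (min ε 1)
  have hr : 0 < r := lt_min hδ (lt_min hε one_pos)
  obtain ⟨v, hv, hGv⟩ : ∃ v, dist v v₀ < r ∧ MvPolynomial.eval v G ≠ 0 := by
    by_contra hcon
    push Not at hcon
    refine hG (MvPolynomial.funext_set (fun i => Metric.ball (v₀ i) r) (fun i => ?_) fun x hx => ?_)
    · exact infinite_of_mem_nhds (v₀ i) (Metric.ball_mem_nhds _ hr)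
    · rw [map_zero]
      exact hcon x ((dist_pi_lt_iff hr).2 fun i => hx i trivial)
  obtain ⟨t, ht, htle⟩ := exists_root_norm_pow_le (hqm.map (MvPolynomial.eval v)) (by rwa [hqm.natDegree_map])
  rw [hqm.natDegree_map, coeff_map] at htle
  obtain ⟨ψ, hψv, hψh⟩ := exists_lift hinj h v t ht
  have hψg : ψ g ≠ 0 := fun h0 => hGv (by
    rw [← hψv, ← apply_algebraMap ψ]
    exact coeff_zero_eq_zero_of_aeval (ψ : A →+* ℂ) (minpoly.aeval P g) h0)
  refine ⟨Φ ψ, ⟨ψ, ⟨subset_closure ⟨⟨ψ, rfl⟩, hψg⟩, ⟨ψ, rfl⟩, ?_⟩, rfl⟩, ?_⟩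
  · rw [Set.mem_preimage, hψv, Metric.mem_closedBall]
    exact (hv.trans_le ((min_le_right _ _).trans (min_le_right _ _))).le
  · have hvδ := hδ' (hv.trans_le (min_le_left _ _))
    rw [hc0, dist_zero_right] at hvδ
    have ht' : ‖t‖ < ε / 2 :=
      lt_of_pow_lt_pow_left₀ q.natDegree (half_pos hε).le (htle.trans_lt hvδ)
    rw [show Φ ψ = (v, t) from Prod.ext hψv hψh, Prod.dist_eq, max_lt_iff, dist_comm]
    refine ⟨hv.trans_le ((min_le_right _ _).trans (min_le_left _ _)), ?_⟩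
    rw [dist_comm, dist_zero_right]
    linarith

omit [Algebra (MvPolynomial (Fin d) ℂ) A] [IsScalarTower ℂ (MvPolynomial (Fin d) ℂ) A]
  [Module.Finite (MvPolynomial (Fin d) ℂ) A] in
/-- The points where a nonzero element does not vanish are dense. -/
theorem mem_closure_ne_zero {g : A} (hg : g ≠ 0) (φ : A →ₐ[ℂ] ℂ) :
    (φ : A → ℂ) ∈ closure (homSet A ∩ {f | f g ≠ 0}) := by
  obtain ⟨e, ι, hinj, hfin⟩ := exists_finite_inj_algHom_of_fg ℂ A
  letI : Algebra (MvPolynomial (Fin e) ℂ) A := ι.toRingHom.toAlgebra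
  haveI : IsScalarTower ℂ (MvPolynomial (Fin e) ℂ) A := IsScalarTower.of_algebraMap_eq fun c => (ι.commutes c).symm
  haveI : Module.Finite (MvPolynomial (Fin e) ℂ) A := hfin
  exact mem_closure_ne_zero_aux (d := e) hinj hg φ

end

end Groth.Agent.AnPts
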