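import Mathlib
import Groth.Prelude.Def_AnPts

/-! Complex points: evaluation, affine embeddings, open and closed immersions. -/

set_option autoImplicit false
set_option backward.isDefEq.respectTransparency false
set_option backward.isDefEq.respectTransparency.types false

open AlgebraicGeometry CategoryTheory TopologicalSpace Opposite Topology

namespace Groth.Agent.AnPts

open An An.Pts

noncomputable section

variable {X : Scheme.{0}} [X.Over SC]

/-- Evaluation at a point as a ring homomorphism. -/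
def evHom (x : Pts X) (U : X.Opens) (h : x.pt ∈ U) : Γ(X, U) →+* ℂ :=
  (Scheme.ΓSpecIso (CommRingCat.of ℂ)).hom.hom.comp (x.1.appLE U ⊤ (top_le_preimage x h)).hom

theorem evHom_apply (x : Pts X) (U : X.Opens) (h : x.pt ∈ U) (f : Γ(X, U)) : evHom x U h f = x.ev U h f := rfl

theorem ev_res (x : Pts X) {U V : X.Opens} (i : V ≤ U) (h : x.pt ∈ V) (f : Γ(X, U)) :
    x.ev V h (X.presheaf.map (homOfLE i).op f) = x.ev U (i h) f := by
  unfold ev
  congr 1
  exact ConcreteCategory.congr_hom (Scheme.Hom.map_appLE x.1 (top_le_preimage x h) (homOfLE i).op) f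

theorem evTop_eq (x : Pts X) (f : Γ(X, ⊤)) :
    x.evTop f = (Scheme.ΓSpecIso (CommRingCat.of ℂ)).hom (x.1.appTop f) := by
  unfold evTop ev
  congr 1

theorem ev_eq_evTop (x : Pts X) {V : X.Opens} (h : x.pt ∈ V) (f : Γ(X, ⊤)) :
    x.ev V h (X.presheaf.map (homOfLE le_top).op f) = x.evTop f :=
  ev_res x le_top h f

theorem evTop_strHom (x : Pts X) (c : ℂ) : x.evTop (strHom X c) = c := by
  rw [evTop_eq]
  change (Scheme.ΓSpecIso _).hom (((X ↘ SC).appTop ≫ x.1.appTop) ((Scheme.ΓSpecIso (CommRingCat.of ℂ)).inv c)) = c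
  rw [← Scheme.Hom.comp_appTop, x.2]
  simp

theorem evTop_map {Y : Scheme.{0}} [Y.Over SC] (g : X ⟶ Y) [g.IsOver SC] (x : Pts X) (f : Γ(Y, ⊤)) :
    (map g x).evTop f = x.evTop (g.appTop f) := by
  rw [evTop_eq, evTop_eq, map_val, Scheme.Hom.comp_appTop]
  rfl

theorem mem_basicOpen_iff (x : Pts X) (g : Γ(X, ⊤)) : x.pt ∈ X.basicOpen g ↔ x.evTop g ≠ 0 := by
  rw [evTop_eq, map_ne_zero_iff _ (ConcreteCategory.bijective_of_isIso (Scheme.ΓSpecIso _).hom).1]
  change x.1 cpt ∈ X.basicOpen g ↔ _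
  rw [← Scheme.Hom.mem_preimage, Scheme.preimage_basicOpen_top]
  generalize x.1.appTop g = c
  constructor
  · rintro h rfl
    simp at h
  · intro h
    have hu : IsUnit c := by
      have hc : (Scheme.ΓSpecIso (CommRingCat.of ℂ)).hom c ≠ 0 := by
        rwa [map_ne_zero_iff _ (ConcreteCategory.bijective_of_isIso (Scheme.ΓSpecIso _).hom).1]
      simpa using (IsUnit.mk0 _ hc).map (Scheme.ΓSpecIso (CommRingCat.of ℂ)).inv.hom
    rw [Scheme.basicOpen_of_isUnit SC hu]
    trivial

theorem evTop_mvPolynomial (x : Pts X) {σ : Type*} (s : σ → Γ(X, ⊤)) (p : MvPolynomial σ ℂ) :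
    x.evTop (MvPolynomial.eval₂Hom (strHom X) s p) = MvPolynomial.eval (fun i => x.evTop (s i)) p := by
  have : (evHom x ⊤ trivial).comp (MvPolynomial.eval₂Hom (strHom X) s) = MvPolynomial.eval (fun i => x.evTop (s i)) := by
    refine MvPolynomial.ringHom_ext (fun c => ?_) fun i => ?_
    · simp only [RingHom.comp_apply, MvPolynomial.eval₂Hom_C, MvPolynomial.eval_C]
      exact evTop_strHom x c
    · simp only [RingHom.comp_apply, MvPolynomial.eval₂Hom_X', MvPolynomial.eval_X]
      rfl
  exact RingHom.congr_fun this p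

section Affine

variable [IsAffine X]

theorem ext_of_evTop {x y : Pts X} (h : ∀ f, x.evTop f = y.evTop f) : x = y := by
  refine Subtype.ext (ext_of_isAffine (CommRingCat.hom_ext (RingHom.ext fun f => ?_)))
  exact (ConcreteCategory.bijective_of_isIso (Scheme.ΓSpecIso (CommRingCat.of ℂ)).hom).1
    (by rw [← evTop_eq, ← evTop_eq, h])

theorem exists_of_ringHom (φ : Γ(X, ⊤) →+* ℂ) (hφ : ∀ c, φ (strHom X c) = c) :
    ∃ x : Pts X, ∀ f, x.evTop f = φ f := by
  let p : SC ⟶ X := Spec.map (CommRingCat.ofHom φ) ≫ X.isoSpec.inv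
  have happ : p.appTop ≫ (Scheme.ΓSpecIso (CommRingCat.of ℂ)).hom = CommRingCat.ofHom φ := by
    have hi : X.isoSpec.inv.appTop = (Scheme.ΓSpecIso Γ(X, ⊤)).inv := by
      rw [← cancel_mono X.isoSpec.hom.appTop, ← Scheme.Hom.comp_appTop, Iso.hom_inv_id]
      change _ = _ ≫ X.toSpecΓ.appTop
      rw [Scheme.toSpecΓ_appTop, Iso.inv_hom_id]
      rfl
    rw [Scheme.Hom.comp_appTop, hi, Category.assoc, Scheme.ΓSpecIso_naturality]
    exact Iso.inv_hom_id_assoc _ _
  have hp : p ≫ (X ↘ SC) = 𝟙 SC := by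
    refine ext_of_isAffine ?_
    rw [← cancel_mono (Scheme.ΓSpecIso (CommRingCat.of ℂ)).hom, Scheme.Hom.comp_appTop, Category.assoc, happ,
      ← cancel_epi (Scheme.ΓSpecIso (CommRingCat.of ℂ)).inv]
    refine CommRingCat.hom_ext (RingHom.ext fun c => (hφ c).trans ?_)
    simp
  refine ⟨⟨p, hp⟩, fun f => ?_⟩
  rw [evTop_eq]
  exact ConcreteCategory.congr_hom happ f

/-- The topology of an affine scheme's points is induced by evaluation of global functions. -/
theorem isInducing_evTop : IsInducing fun (x : Pts X) (f : Γ(X, ⊤)) => x.evTop f := by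
  refine ⟨le_antisymm (Continuous.le_induced (continuous_pi fun f => ?_)) (le_generateFrom ?_)⟩
  · refine continuous_def.2 fun V hV => ?_
    convert isOpen_basicSet (X := X) ⊤ f hV
    ext x
    exact ⟨fun h => ⟨trivial, h⟩, fun ⟨_, h⟩ => h⟩
  · rintro _ ⟨U, f, V, hV, rfl⟩
    let τ := TopologicalSpace.induced (fun (x : Pts X) (f : Γ(X, ⊤)) => x.evTop f) inferInstance
    have hc : ∀ g, @Continuous _ _ τ _ fun x : Pts X => x.evTop g := fun g =>
      @Continuous.comp _ _ _ τ _ _ (fun x : Pts X => fun f => x.evTop f) (fun v : Γ(X, ⊤) → ℂ => v g)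
        (continuous_apply g) continuous_induced_dom
    refine (@isOpen_iff_forall_mem_open _ τ _).2 ?_
    rintro x ⟨hxU, hxV⟩
    obtain ⟨g, hgU, hxg⟩ := (isAffineOpen_top X).exists_basicOpen_le ⟨x.pt, hxU⟩ trivial
    haveI := (isAffineOpen_top X).isLocalization_basicOpen g
    obtain ⟨⟨a, m⟩, ham⟩ := IsLocalization.surj (Submonoid.powers g) (X.presheaf.map (homOfLE hgU).op f)
    obtain ⟨n, hn⟩ : ∃ n : ℕ, g ^ n = (m : Γ(X, ⊤)) := m.2
    have hval : ∀ (y : Pts X) (hy : y.pt ∈ X.basicOpen g), y.ev U (hgU hy) f = y.evTop a / y.evTop g ^ n := by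
      intro y hy
      have hg : y.evTop g ≠ 0 := (mem_basicOpen_iff y g).1 hy
      have h1 := congrArg (evHom y (X.basicOpen g) hy) ham
      rw [map_mul, evHom_apply, ev_res, RingHom.algebraMap_toAlgebra] at h1
      rw [eq_div_iff (pow_ne_zero _ hg)]
      refine Eq.trans ?_ (h1.trans (ev_eq_evTop y hy a))
      congr 1
      rw [← hn, map_pow, map_pow, evHom_apply]
      exact congrArg (· ^ n) (ev_eq_evTop y hy g).symm
    refine ⟨{y | y.evTop g ≠ 0} ∩ (fun y => y.evTop a / y.evTop g ^ n) ⁻¹' V, ?_, ?_, ?_⟩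
    · rintro y ⟨hy, hyV⟩
      exact ⟨hgU ((mem_basicOpen_iff y g).2 hy), by rw [hval y ((mem_basicOpen_iff y g).2 hy)]; exact hyV⟩
    · refine @ContinuousOn.isOpen_inter_preimage _ _ τ _ _ _ _ ?_ (isOpen_ne.preimage (hc g)) hV
      exact ((@Continuous.continuousOn _ _ τ _ _ _ (hc a))).div ((@Continuous.continuousOn _ _ τ _ _ _ ((hc g).pow n)))
        fun y hy => pow_ne_zero _ hy
    · exact ⟨(mem_basicOpen_iff x g).1 hxg, by rw [Set.mem_preimage, ← hval x hxg]; exact hxV⟩

theorem isClosedEmbedding_evTop {σ : Type*} (s : σ → Γ(X, ⊤))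
    (hs : Function.Surjective (MvPolynomial.eval₂Hom (strHom X) s)) :
    IsClosedEmbedding fun (x : Pts X) (i : σ) => x.evTop (s i) := by
  let P : (σ → ℂ) → Γ(X, ⊤) → ℂ := fun v f => MvPolynomial.eval v (Function.surjInv hs f)
  have hP : ∀ (x : Pts X) f, P (fun i => x.evTop (s i)) f = x.evTop f := fun x f => by
    simp only [P]
    rw [← evTop_mvPolynomial, Function.surjInv_eq hs]
  have hPc : Continuous P := continuous_pi fun f => MvPolynomial.continuous_eval _
  have hind : IsInducing fun (x : Pts X) (i : σ) => x.evTop (s i) := by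
    have h0 : Continuous fun (x : Pts X) (i : σ) => x.evTop (s i) :=
      continuous_pi fun i => (continuous_apply (s i)).comp (isInducing_evTop (X := X)).continuous
    exact IsInducing.of_comp h0 hPc (by
      rw [show P ∘ (fun (x : Pts X) (i : σ) => x.evTop (s i)) = fun x f => x.evTop f from funext₂ hP]
      exact isInducing_evTop)
  refine ⟨⟨hind, fun x y h => ext_of_evTop fun f => by rw [← hP x, ← hP y]; exact congrArg (fun v => P v f) h⟩, ?_⟩
  have hr : Set.range (fun (x : Pts X) (i : σ) => x.evTop (s i)) =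
      {v | ∀ p, MvPolynomial.eval₂Hom (strHom X) s p = 0 → MvPolynomial.eval v p = 0} := by
    ext v
    constructor
    · rintro ⟨x, rfl⟩ p hp
      rw [← evTop_mvPolynomial, hp]
      exact map_zero (evHom x ⊤ trivial)
    · intro hv
      let φ := RingHom.liftOfSurjective (MvPolynomial.eval₂Hom (strHom X) s) hs ⟨MvPolynomial.eval v, fun p hp => hv p hp⟩
      have hφ : ∀ p, φ (MvPolynomial.eval₂Hom (strHom X) s p) = MvPolynomial.eval v p :=
        RingHom.liftOfRightInverse_comp_apply _ _ _ _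
      obtain ⟨x, hx⟩ := exists_of_ringHom φ fun c => by
        have := hφ (MvPolynomial.C c)
        simpa using this
      refine ⟨x, funext fun i => ?_⟩
      have := hφ (MvPolynomial.X i)
      simp only [MvPolynomial.eval₂Hom_X', MvPolynomial.eval_X] at this
      exact (hx _).trans this
  rw [hr]
  simp only [Set.ofPred_forall]
  exact isClosed_iInter fun p => isClosed_iInter fun _ => isClosed_eq (MvPolynomial.continuous_eval p) continuous_const

end Affine

end

end Groth.Agent.AnPts
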