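import Mathlib
import Groth.Prelude.Def_AnPts
import Groth.Agent.AnPts.Basic

/-! Complex points are the closed points; immersions induce embeddings. -/

set_option autoImplicit false
set_option backward.isDefEq.respectTransparency false
set_option backward.isDefEq.respectTransparency.types false

open AlgebraicGeometry CategoryTheory TopologicalSpace Opposite Topology

namespace Groth.Agent.AnPts

open An An.Pts

noncomputable section

theorem closedPoint_eq_cpt : (IsLocalRing.closedPoint ℂ : ↥SC) = cpt := eq_cpt _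

/-- An open subscheme of a scheme over `ℂ` is over `ℂ`. -/
@[reducible] def opensOver {X : Scheme.{0}} [X.Over SC] (U : X.Opens) : (U : Scheme).Over SC := ⟨U.ι ≫ (X ↘ SC)⟩

variable {X Y : Scheme.{0}} [X.Over SC] [Y.Over SC]

theorem map_injective_of_mono (f : X ⟶ Y) [f.IsOver SC] [Mono f] : Function.Injective (Pts.map f) :=
  fun x y h => Subtype.ext ((cancel_mono f).mp (congrArg Subtype.val h))

/-- The range of an open immersion on complex points. -/
theorem range_map_of_isOpenImmersion (f : X ⟶ Y) [f.IsOver SC] [IsOpenImmersion f] :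
    Set.range (Pts.map f) = pt ⁻¹' Set.range f := by
  ext y
  constructor
  · rintro ⟨x, rfl⟩
    exact ⟨x.pt, (pt_map f x).symm⟩
  · intro hy
    have hr : Set.range y.1 ⊆ Set.range f := by
      rintro _ ⟨p, rfl⟩
      rw [eq_cpt p]
      exact hy
    refine ⟨⟨IsOpenImmersion.lift f y.1 hr, ?_⟩, Subtype.ext (IsOpenImmersion.lift_fac f y.1 hr)⟩
    rw [← comp_over f (S := SC), IsOpenImmersion.lift_fac_assoc, y.2]

theorem isOpenEmbedding_map (f : X ⟶ Y) [f.IsOver SC] [IsOpenImmersion f] : IsOpenEmbedding (Pts.map f) := by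
  refine ⟨⟨⟨le_antisymm (continuous_map f).le_induced (le_generateFrom ?_)⟩, map_injective_of_mono f⟩, ?_⟩
  · rintro _ ⟨U, s, V, hV, rfl⟩
    refine ⟨basicSet (f ''ᵁ U) ((f.appIso U).inv s) V, isOpen_basicSet _ _ hV, ?_⟩
    rw [preimage_basicSet]
    have hs : f.app (f ''ᵁ U) ((f.appIso U).inv s) = X.presheaf.map (homOfLE (Scheme.Hom.preimage_image_eq f U).le).op s := by
      rw [← ConcreteCategory.comp_apply, Scheme.Hom.appIso_inv_app]
      rfl
    ext x
    constructor
    · rintro ⟨h, hv⟩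
      rw [hs, ev_res] at hv
      exact ⟨_, hv⟩
    · rintro ⟨h, hv⟩
      refine ⟨(Scheme.Hom.preimage_image_eq f U).ge h, ?_⟩
      rw [hs, ev_res]
      exact hv
  · rw [range_map_of_isOpenImmersion f]
    exact f.isOpenEmbedding.isOpen_range.preimage continuous_pt

theorem exists_affine_chart {U : X.Opens} (x : Pts X) (hx : x.pt ∈ U) :
    ∃ W : X.Opens, x.pt ∈ W ∧ W ≤ U ∧ IsAffineOpen W := by
  obtain ⟨_, ⟨W, hW, rfl⟩, hxW, hWU⟩ := X.isBasis_affineOpens.exists_subset_of_mem_open hx U.isOpen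
  exact ⟨W, hxW, hWU, hW⟩

section LFT

variable [LocallyOfFiniteType (X ↘ SC)] [LocallyOfFiniteType (Y ↘ SC)]

theorem locallyOfFiniteType_of_isOver (f : X ⟶ Y) [f.IsOver SC] : LocallyOfFiniteType f :=
  haveI : LocallyOfFiniteType (f ≫ (Y ↘ SC)) := by rw [comp_over f (S := SC)]; infer_instance
  locallyOfFiniteType_of_comp f (Y ↘ SC)

theorem jacobsonSpace : JacobsonSpace ↥X :=
  LocallyOfFiniteType.jacobsonSpace (X ↘ SC)

theorem isClosed_pt (x : Pts X) : IsClosed {x.pt} := by
  have h := (pointEquivClosedPoint (X ↘ SC) ⟨x.1, x.2⟩).2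
  rwa [pointEquivClosedPoint_apply_coe, closedPoint_eq_cpt] at h

theorem pt_injective : Function.Injective (pt : Pts X → X) := fun x y h =>
  Subtype.ext (ext_of_apply_closedPoint_eq (X ↘ SC) x.2 y.2 (by rw [closedPoint_eq_cpt]; exact h))

theorem exists_pt_eq (x : X) (hx : IsClosed {x}) : ∃ a : Pts X, a.pt = x :=
  ⟨⟨pointOfClosedPoint (X ↘ SC) x hx, pointOfClosedPoint_comp _ _ _⟩, pointOfClosedPoint_apply _ _ _ _⟩

theorem range_pt : Set.range (pt : Pts X → X) = closedPoints X := by
  ext x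
  exact ⟨fun ⟨a, h⟩ => h ▸ isClosed_pt a, exists_pt_eq x⟩

/-- A nonempty locally closed set contains a complex point. -/
theorem exists_pts_mem {Z : Set X} (hZ : IsLocallyClosed Z) (hne : Z.Nonempty) : ∃ a : Pts X, a.pt ∈ Z := by
  haveI := jacobsonSpace (X := X)
  obtain ⟨x, hxZ, hx⟩ := nonempty_inter_closedPoints hne hZ
  obtain ⟨a, rfl⟩ := exists_pt_eq x hx
  exact ⟨a, hxZ⟩

/-- The image of complex points is the set of complex points lying in the image. -/
theorem range_map (f : X ⟶ Y) [f.IsOver SC] : Set.range (Pts.map f) = pt ⁻¹' Set.range f := by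
  ext y
  constructor
  · rintro ⟨x, rfl⟩
    exact ⟨x.pt, (pt_map f x).symm⟩
  · rintro ⟨x₀, hx₀⟩
    obtain ⟨a, ha⟩ := exists_pts_mem (Z := f ⁻¹' {y.pt})
      ((isClosed_pt y).preimage f.continuous).isLocallyClosed ⟨x₀, hx₀⟩
    exact ⟨a, pt_injective ((pt_map f a).trans ha)⟩

omit [LocallyOfFiniteType (Y ↘ SC)] [Y.Over SC] in
theorem locallyOfFiniteType_opens (U : X.Opens) :
    letI := opensOver U
    LocallyOfFiniteType ((U : Scheme) ↘ SC) :=
  inferInstanceAs (LocallyOfFiniteType (U.ι ≫ (X ↘ SC)))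

theorem isInducing_map_of_isClosedImmersion (f : X ⟶ Y) [f.IsOver SC] [IsClosedImmersion f] :
    IsInducing (Pts.map f) := by
  have affine : ∀ {X Y : Scheme.{0}} [X.Over SC] [Y.Over SC] [IsAffine Y] (f : X ⟶ Y) [f.IsOver SC]
      [IsClosedImmersion f], IsInducing (Pts.map f) := by
    intro X Y _ _ _ f _ _
    haveI : IsAffine X := isAffine_of_isAffineHom f
    refine IsInducing.of_comp (continuous_map f) (isInducing_evTop (X := Y)).continuous ?_
    let g : (Γ(X, ⊤) → ℂ) → (Γ(Y, ⊤) → ℂ) := fun v s => v (f.appTop s)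
    have hsurj : Function.Surjective f.appTop :=
      (IsClosedImmersion.isAffine_surjective_of_isAffine (f := f)).2
    have hg : IsInducing g := by
      have hc : Continuous g := continuous_pi fun s => continuous_apply _
      refine IsInducing.of_comp hc (continuous_pi fun t => continuous_apply (Function.surjInv hsurj t)) ?_
      convert IsInducing.id using 1
      funext v t
      exact congrArg v (Function.surjInv_eq hsurj t)
    convert hg.comp (isInducing_evTop (X := X)) using 1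
    funext x s
    exact evTop_map f x s
  refine ⟨le_antisymm (continuous_map f).le_induced fun O hO => ?_⟩
  refine (@isOpen_iff_forall_mem_open _ (induced (Pts.map f) inferInstance) _).2 fun x hx => ?_
  obtain ⟨W, hxW, -, hW⟩ := exists_affine_chart (U := ⊤) (Pts.map f x) trivial
  letI := opensOver W
  letI := opensOver (f ⁻¹ᵁ W)
  haveI : W.ι.IsOver SC := ⟨rfl⟩
  haveI : (f ⁻¹ᵁ W).ι.IsOver SC := ⟨rfl⟩
  haveI : IsAffine (W : Scheme) := hW
  haveI : (f ∣_ W).IsOver SC := ⟨by
    change (f ∣_ W) ≫ W.ι ≫ (Y ↘ SC) = (f ⁻¹ᵁ W).ι ≫ (X ↘ SC)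
    rw [morphismRestrict_ι_assoc, comp_over f]⟩
  haveI : IsClosedImmersion (f ∣_ W) := IsZariskiLocalAtTarget.restrict ‹_› W
  have h1 := affine (f ∣_ W)
  obtain ⟨O₁, hO₁, hO₁'⟩ := (h1.isOpen_iff).1 (hO.preimage (continuous_map (f ⁻¹ᵁ W).ι))
  have hcomp : ∀ z, Pts.map W.ι (Pts.map (f ∣_ W) z) = Pts.map f (Pts.map (f ⁻¹ᵁ W).ι z) := fun z =>
    Subtype.ext (by simp only [map_val, Category.assoc, morphismRestrict_ι])
  refine ⟨Pts.map f ⁻¹' (Pts.map W.ι '' O₁), ?_, ?_, ?_⟩
  · rintro z ⟨w, hw, hwz⟩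
    obtain ⟨z', rfl⟩ : z ∈ Set.range (Pts.map (f ⁻¹ᵁ W).ι) := by
      rw [range_map_of_isOpenImmersion, Set.mem_preimage, Scheme.Opens.range_ι]
      change f z.pt ∈ W
      rw [← pt_map f, ← hwz, pt_map]
      exact (W.range_ι).le ⟨_, rfl⟩
    rw [← hcomp] at hwz
    have hw' := map_injective_of_mono W.ι hwz
    subst hw'
    exact hO₁'.le hw
  · exact isOpen_induced ((isOpenEmbedding_map W.ι).isOpenMap _ hO₁)
  · obtain ⟨x', rfl⟩ : x ∈ Set.range (Pts.map (f ⁻¹ᵁ W).ι) := by
      rw [range_map_of_isOpenImmersion, Set.mem_preimage, Scheme.Opens.range_ι]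
      change f x.pt ∈ W
      rw [← pt_map f]
      exact hxW
    exact ⟨Pts.map (f ∣_ W) x', hO₁'.ge hx, hcomp x'⟩

theorem isClosedEmbedding_map (f : X ⟶ Y) [f.IsOver SC] [IsClosedImmersion f] :
    IsClosedEmbedding (Pts.map f) := by
  refine ⟨⟨isInducing_map_of_isClosedImmersion f, map_injective_of_mono f⟩, ?_⟩
  rw [range_map]
  exact f.isClosedEmbedding.isClosed_range.preimage continuous_pt

theorem isEmbedding_map_of_isImmersion (f : X ⟶ Y) [f.IsOver SC] [IsImmersion f] :
    IsEmbedding (Pts.map f) ∧ IsLocallyClosed (Set.range (Pts.map f)) := by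
  letI := opensOver f.coborderRange
  haveI : f.coborderRange.ι.IsOver SC := ⟨rfl⟩
  haveI := locallyOfFiniteType_opens f.coborderRange
  haveI : f.liftCoborder.IsOver SC := ⟨by
    change f.liftCoborder ≫ f.coborderRange.ι ≫ (Y ↘ SC) = X ↘ SC
    rw [Scheme.Hom.liftCoborder_ι_assoc, comp_over f]⟩
  have he : Pts.map f = Pts.map f.coborderRange.ι ∘ Pts.map f.liftCoborder :=
    funext fun x => Subtype.ext (by simp [map_val])
  constructor
  · rw [he]
    exact (isOpenEmbedding_map _).isEmbedding.comp (isClosedEmbedding_map _).isEmbedding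
  · rw [range_map]
    exact f.isLocallyClosed_range.preimage continuous_pt

theorem exists_evTop_closedEmbedding [IsAffine X] :
    ∃ (n : ℕ) (e : Pts X → (Fin n → ℂ)), IsClosedEmbedding e := by
  letI : Algebra ℂ Γ(X, ⊤) := (strHom X).toAlgebra
  have h : (strHom X).FiniteType := by
    have h1 : (X ↘ SC).appTop.hom.FiniteType :=
      (HasRingHomProperty.appTop (P := @LocallyOfFiniteType) (X ↘ SC) inferInstance)
    exact h1.comp (RingHom.FiniteType.of_surjective _
      (ConcreteCategory.bijective_of_isIso (Scheme.ΓSpecIso (CommRingCat.of ℂ)).inv).2)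
  haveI : Algebra.FiniteType ℂ Γ(X, ⊤) := h
  obtain ⟨n, φ, hφ⟩ := Algebra.FiniteType.iff_quotient_mvPolynomial''.mp (inferInstance : Algebra.FiniteType ℂ Γ(X, ⊤))
  refine ⟨n, _, isClosedEmbedding_evTop (fun i => φ (MvPolynomial.X i)) ?_⟩
  have : MvPolynomial.eval₂Hom (strHom X) (fun i => φ (MvPolynomial.X i)) = φ.toRingHom :=
    MvPolynomial.ringHom_ext (fun c => by simp only [MvPolynomial.eval₂Hom_C]; exact (φ.commutes c).symm) (fun i => by simp)
  rw [this]
  exact hφ

theorem locallyCompactSpace : LocallyCompactSpace (Pts X) := by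
  refine ⟨fun x N hN => ?_⟩
  obtain ⟨W, hxW, -, hW⟩ := exists_affine_chart (U := ⊤) x trivial
  letI := opensOver W
  haveI : W.ι.IsOver SC := ⟨rfl⟩
  haveI : IsAffine (W : Scheme) := hW
  haveI := locallyOfFiniteType_opens W
  obtain ⟨n, e, he⟩ := exists_evTop_closedEmbedding (X := (W : Scheme))
  haveI : LocallyCompactSpace (Pts (W : Scheme)) := he.locallyCompactSpace
  have ho := isOpenEmbedding_map W.ι
  obtain ⟨x', rfl⟩ : x ∈ Set.range (Pts.map W.ι) := by
    rw [range_map_of_isOpenImmersion, Set.mem_preimage, Scheme.Opens.range_ι]; exact hxW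
  obtain ⟨K, hK, hKN, hKc⟩ := local_compact_nhds (ho.continuous.continuousAt.preimage_mem_nhds hN)
  exact ⟨Pts.map W.ι '' K, ho.isOpenMap.image_mem_nhds hK, Set.image_subset_iff.2 hKN, hKc.image ho.continuous⟩

end LFT

end

end Groth.Agent.AnPts
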