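import Mathlib
import Groth.Prelude.Def_AnPts
import Groth.Agent.AnPts.Imm
import Groth.Agent.AnPts.Dense
import Groth.Agent.ConstrNoeth.Basic

/-! Closure, openness and density of constructible sets are detected on complex points. -/

set_option autoImplicit false
set_option backward.isDefEq.respectTransparency false
set_option backward.isDefEq.respectTransparency.types false

open AlgebraicGeometry CategoryTheory TopologicalSpace Opposite Topology

namespace Groth.Agent.AnPts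

open An An.Pts

noncomputable section

variable {X : Scheme.{0}} [X.Over SC] [LocallyOfFiniteType (X ↘ SC)]

theorem finiteType_strHom [IsAffine X] : (strHom X).FiniteType := by
  have h1 : (X ↘ SC).appTop.hom.FiniteType :=
    HasRingHomProperty.appTop (P := @LocallyOfFiniteType) (X ↘ SC) inferInstance
  exact h1.comp (RingHom.FiniteType.of_surjective _
    (ConcreteCategory.bijective_of_isIso (Scheme.ΓSpecIso (CommRingCat.of ℂ)).inv).2)

theorem exists_pieces [IsAffine X] {T : Set X} (hT : IsLocallyConstructible T) :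
    ∃ (n : ℕ) (L : Fin n → Set X), (∀ i, IsLocallyClosed (L i)) ∧ T = ⋃ i, L i :=
  Groth.Agent.ConstrNoeth.exists_iUnion_isLocallyClosed hT.isConstructible

theorem mem_basicOpen_iff_notMem (η : X) (f : Γ(X, ⊤)) :
    η ∈ X.basicOpen f ↔ f ∉ (IsLocalRing.maximalIdeal (X.presheaf.stalk η)).comap (X.presheaf.germ ⊤ η trivial).hom := by
  rw [Scheme.mem_basicOpen _ _ _ (show η ∈ (⊤ : X.Opens) from trivial), Ideal.mem_comap, IsLocalRing.mem_maximalIdeal,
    mem_nonunits_iff, not_not]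

/-- A complex point in the closure of a point of a locally closed piece is a limit of complex points of that piece. -/
theorem mem_closure_of_specializes [IsAffine X] {U C : Set X} (hU : IsOpen U) (hC : IsClosed C) {η : X} (hηU : η ∈ U)
    (hηC : η ∈ C) (x : Pts X) (hx : η ⤳ x.pt) : x ∈ closure (pt ⁻¹' (U ∩ C) : Set (Pts X)) := by
  obtain ⟨g, hgU, hηg⟩ := (isAffineOpen_top X).exists_basicOpen_le (V := ⟨U, hU⟩) ⟨η, hηU⟩ trivial
  let p : Ideal Γ(X, ⊤) := (IsLocalRing.maximalIdeal (X.presheaf.stalk η)).comap (X.presheaf.germ ⊤ η trivial).hom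
  have hp : p.IsPrime := Ideal.comap_isPrime _ _
  letI : Algebra ℂ Γ(X, ⊤) := (strHom X).toAlgebra
  haveI : Algebra.FiniteType ℂ Γ(X, ⊤) := finiteType_strHom (X := X)
  haveI : Algebra.FiniteType ℂ (Γ(X, ⊤) ⧸ p) :=
    Algebra.FiniteType.of_surjective (Ideal.Quotient.mkₐ ℂ p) Ideal.Quotient.mk_surjective
  have hxp : ∀ f ∈ p, x.evTop f = 0 := fun f hf => by
    by_contra h
    exact (mem_basicOpen_iff_notMem η f).1 (hx.mem_open (X.basicOpen f).2 ((mem_basicOpen_iff x f).2 h)) hf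
  let φ : Γ(X, ⊤) →ₐ[ℂ] ℂ := { evHom x ⊤ trivial with commutes' := evTop_strHom x }
  let φp : Γ(X, ⊤) ⧸ p →ₐ[ℂ] ℂ := Ideal.Quotient.liftₐ p φ hxp
  have hg : Ideal.Quotient.mk p g ≠ 0 := by
    rw [Ne, Ideal.Quotient.eq_zero_iff_mem]
    exact (mem_basicOpen_iff_notMem η g).1 hηg
  rw [(isInducing_evTop (X := X)).closure_eq_preimage_closure_image, Set.mem_preimage]
  let F : (Γ(X, ⊤) ⧸ p → ℂ) → (Γ(X, ⊤) → ℂ) := fun f a => f (Ideal.Quotient.mk p a)
  have hF : Continuous F := continuous_pi fun a => continuous_apply _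
  have hφ : F (φp : Γ(X, ⊤) ⧸ p → ℂ) = fun f => x.evTop f := funext fun a => rfl
  rw [← hφ]
  refine map_mem_closure hF (mem_closure_ne_zero hg φp) ?_
  rintro _ ⟨⟨ψ, rfl⟩, hψg⟩
  obtain ⟨y, hy⟩ := exists_of_ringHom ((ψ : Γ(X, ⊤) ⧸ p →+* ℂ).comp (Ideal.Quotient.mk p)) fun c => ψ.commutes c
  refine ⟨y, ⟨hgU ((mem_basicOpen_iff y g).2 (by rw [hy]; exact hψg)), ?_⟩, funext hy⟩
  refine (specializes_iff_forall_open.2 fun V hV hyV => ?_).mem_closed hC hηC
  obtain ⟨f, hfV, hyf⟩ := (isAffineOpen_top X).exists_basicOpen_le (V := ⟨V, hV⟩) ⟨y.pt, hyV⟩ trivial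
  refine hfV ((mem_basicOpen_iff_notMem η f).2 fun hf => (mem_basicOpen_iff y f).1 hyf ?_)
  rw [hy, RingHom.comp_apply, Ideal.Quotient.eq_zero_iff_mem.2 hf, map_zero]

theorem preimage_closure_subset_of_isLocallyClosed [IsAffine X] {L : Set X} (hL : IsLocallyClosed L) :
    (pt ⁻¹' closure L : Set (Pts X)) ⊆ closure (pt ⁻¹' L) := by
  intro x hx
  obtain ⟨U, C, hU, hC, rfl⟩ := hL
  haveI : IsLocallyNoetherian X := LocallyOfFiniteType.isLocallyNoetherian (X ↘ SC)
  haveI : IsNoetherian X := ⟨⟩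
  obtain ⟨S, hSf, hSc, hSi, hSU⟩ := NoetherianSpace.exists_finite_set_isClosed_irreducible (isClosed_closure (s := U ∩ C))
  have h1 : closure (U ∩ C) ⊆ ⋃ Z ∈ S, closure (U ∩ C ∩ Z) := by
    refine closure_minimal (fun y hy => ?_) (hSf.isClosed_biUnion fun Z _ => isClosed_closure)
    have : y ∈ ⋃₀ S := hSU ▸ subset_closure hy
    obtain ⟨Z, hZ, hyZ⟩ := this
    exact Set.mem_biUnion hZ (subset_closure ⟨hy, hyZ⟩)
  obtain ⟨Z, hZ, hxZ⟩ := Set.mem_iUnion₂.1 (h1 hx)
  obtain ⟨y, hy⟩ := closure_nonempty_iff.1 ⟨_, hxZ⟩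
  obtain ⟨η, hη⟩ := QuasiSober.sober (hSi Z hZ) (hSc Z hZ)
  refine mem_closure_of_specializes hU hC (hη.mem_open_set_iff hU |>.2 ⟨y, hy.2, hy.1.1⟩) ?_ x
    (hη.specializes (closure_minimal Set.inter_subset_right (hSc Z hZ) hxZ))
  refine closure_minimal (s := U ∩ C) Set.inter_subset_right hC ?_
  rw [hSU]
  exact ⟨Z, hZ, hη.mem⟩

theorem exists_affine_point (x : Pts X) :
    ∃ (W : X.Opens) (_ : IsAffineOpen W) (x' : letI := opensOver W; Pts (W : Scheme)),
      letI := opensOver W; haveI : W.ι.IsOver SC := ⟨rfl⟩; Pts.map W.ι x' = x := by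
  obtain ⟨W, hxW, -, hW⟩ := exists_affine_chart (U := ⊤) x trivial
  letI := opensOver W
  haveI : W.ι.IsOver SC := ⟨rfl⟩
  obtain ⟨x', hx'⟩ : x ∈ Set.range (Pts.map W.ι) := by
    rw [range_map_of_isOpenImmersion, Set.mem_preimage, Scheme.Opens.range_ι]; exact hxW
  exact ⟨W, hW, x', hx'⟩

theorem preimage_closure (T : Set X) (hT : IsLocallyConstructible T) :
    (pt ⁻¹' closure T : Set (Pts X)) = closure (pt ⁻¹' T) := by
  refine subset_antisymm (fun x hx => ?_) (continuous_pt.closure_preimage_subset T)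
  obtain ⟨W, hW, x', rfl⟩ := exists_affine_point x
  letI := opensOver W
  haveI : W.ι.IsOver SC := ⟨rfl⟩
  haveI : IsAffine (W : Scheme) := hW
  haveI := locallyOfFiniteType_opens W
  obtain ⟨n, L, hL, hTL⟩ := exists_pieces (hT.preimage_of_isOpenEmbedding W.ι.isOpenEmbedding)
  have hx' : x'.pt ∈ closure (W.ι ⁻¹' T) := by
    rw [← W.ι.isOpenEmbedding.isOpenMap.preimage_closure_eq_closure_preimage W.ι.continuous, Set.mem_preimage, ← pt_map]
    exact hx
  rw [hTL, closure_iUnion_of_finite, Set.mem_iUnion] at hx'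
  obtain ⟨i, hi⟩ := hx'
  refine map_mem_closure (continuous_map W.ι) (preimage_closure_subset_of_isLocallyClosed (hL i) hi) ?_
  intro y hy
  rw [Set.mem_preimage, pt_map]
  exact hTL.ge (Set.mem_iUnion.2 ⟨i, hy⟩)

/-- A nonempty locally constructible set contains a complex point. -/
theorem exists_pts_mem_constructible {T : Set X} (hT : IsLocallyConstructible T) (hne : T.Nonempty) :
    ∃ x : Pts X, x.pt ∈ T := by
  obtain ⟨y, hy⟩ := hne
  obtain ⟨_, ⟨W, hW, rfl⟩, hyW, -⟩ := X.isBasis_affineOpens.exists_subset_of_mem_open (Set.mem_univ y) isOpen_univ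
  letI := opensOver W
  haveI : (Scheme.Opens.ι W).IsOver SC := ⟨rfl⟩
  haveI : IsAffine (Scheme.Opens.toScheme W) := hW
  haveI := locallyOfFiniteType_opens W
  obtain ⟨n, L, hL, hTL⟩ := exists_pieces (hT.preimage_of_isOpenEmbedding (Scheme.Opens.ι W).isOpenEmbedding)
  obtain ⟨i, hi⟩ := Set.mem_iUnion.1 (hTL.le (show (⟨y, hyW⟩ : (Scheme.Opens.toScheme W)) ∈ (Scheme.Opens.ι W) ⁻¹' T from hy))
  obtain ⟨a, ha⟩ := exists_pts_mem (hL i) ⟨_, hi⟩
  exact ⟨Pts.map (Scheme.Opens.ι W) a, by rw [pt_map]; exact hTL.ge (Set.mem_iUnion.2 ⟨i, ha⟩)⟩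

omit [X.Over SC] [LocallyOfFiniteType (X ↘ SC)] in
theorem isLocallyConstructible_compl {T : Set X} (hT : IsLocallyConstructible T) : IsLocallyConstructible Tᶜ := fun x => by
  obtain ⟨U, h1, h2, h3⟩ := hT x
  exact ⟨U, h1, h2, h3.compl⟩

theorem eq_univ_of_preimage {T : Set X} (hT : IsLocallyConstructible T) (h : (pt ⁻¹' T : Set (Pts X)) = Set.univ) :
    T = Set.univ := by
  by_contra hne
  obtain ⟨x, hx⟩ := exists_pts_mem_constructible (isLocallyConstructible_compl hT) (Set.nonempty_compl.2 hne)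
  exact hx (h.ge (Set.mem_univ x))

theorem subset_of_preimage_subset {A B : Set X} (hA : IsLocallyConstructible A) (hB : IsLocallyConstructible B)
    (h : (pt ⁻¹' A : Set (Pts X)) ⊆ pt ⁻¹' B) : A ⊆ B := by
  by_contra hne
  obtain ⟨x, hx⟩ := exists_pts_mem_constructible (hA.inter (isLocallyConstructible_compl hB))
    (by obtain ⟨y, hy, hy'⟩ := Set.not_subset.1 hne; exact ⟨y, hy, hy'⟩)
  exact hx.2 (h hx.1)

end

end Groth.Agent.AnPts
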