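import Mathlib
import Groth.Prelude.Def_AnPts
import Groth.Agent.AnPts.Closure

/-! Properties of morphisms read on complex points. -/

set_option autoImplicit false
set_option backward.isDefEq.respectTransparency false
set_option backward.isDefEq.respectTransparency.types false

open AlgebraicGeometry CategoryTheory CategoryTheory.Limits TopologicalSpace Opposite Topology

namespace Groth.Agent.AnPts

open An An.Pts

noncomputable section

theorem isNoetherian_of_isAffine (X : Scheme.{0}) [IsAffine X] [IsLocallyNoetherian X] :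
    AlgebraicGeometry.IsNoetherian X := { }

theorem SC_over_SC : (SC ↘ SC) = 𝟙 SC := Spec.map_id _

theorem isOver_str (X : Scheme.{0}) [X.Over SC] : (X ↘ SC).IsOver SC :=
  ⟨by rw [SC_over_SC, Category.comp_id]⟩

variable {X Y S : Scheme.{0}} [X.Over SC] [Y.Over SC] [S.Over SC]

/-- A subring with the inclusions of both factors exhausts a pushout of rings. -/
theorem mem_of_isPushout {R A B P : CommRingCat.{0}} {f : R ⟶ A} {g : R ⟶ B} {a : A ⟶ P} {b : B ⟶ P}
    (h : IsPushout f g a b) (T : Subring P) (ha : ∀ x, a x ∈ T) (hb : ∀ x, b x ∈ T) (p : P) : p ∈ T := by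
  let ι : CommRingCat.of T ⟶ P := CommRingCat.ofHom T.subtype
  let a' : A ⟶ CommRingCat.of T := CommRingCat.ofHom (a.hom.codRestrict T ha)
  let b' : B ⟶ CommRingCat.of T := CommRingCat.ofHom (b.hom.codRestrict T hb)
  have hw : f ≫ a' = g ≫ b' := CommRingCat.hom_ext (RingHom.ext fun x =>
    Subtype.ext (ConcreteCategory.congr_hom h.w x))
  have hid : h.desc a' b' hw ≫ ι = 𝟙 P := by
    apply h.hom_ext
    · rw [IsPushout.inl_desc_assoc, Category.comp_id]
      exact CommRingCat.hom_ext (RingHom.ext fun x => rfl)
    · rw [IsPushout.inr_desc_assoc, Category.comp_id]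
      exact CommRingCat.hom_ext (RingHom.ext fun x => rfl)
  rw [show p = ι (h.desc a' b' hw p) from (ConcreteCategory.congr_hom hid p).symm]
  exact (h.desc a' b' hw p).2

theorem isInducing_prod_affine [IsAffine X] [IsAffine Y] [IsAffine S] (f : X ⟶ S) (g : Y ⟶ S) [f.IsOver SC]
    [g.IsOver SC] :
    IsInducing fun z : Pts (pullback f g) => (Pts.map (pullback.fst f g) z, Pts.map (pullback.snd f g) z) := by
  let F := fun z : Pts (pullback f g) => (Pts.map (pullback.fst f g) z, Pts.map (pullback.snd f g) z)
  haveI : IsAffine (pullback f g) := IsAffine.of_isPullback (IsPullback.of_hasPullback f g)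
  have hA : ∀ a : Γ(X, ⊤), Continuous fun q : Pts X × Pts Y => q.1.evTop a := fun a =>
    (continuous_apply a).comp ((isInducing_evTop (X := X)).continuous.comp continuous_fst)
  have hB : ∀ b : Γ(Y, ⊤), Continuous fun q : Pts X × Pts Y => q.2.evTop b := fun b =>
    (continuous_apply b).comp ((isInducing_evTop (X := Y)).continuous.comp continuous_snd)
  have heq := (isInducing_evTop (X := pullback f g)).eq_induced
  refine ⟨le_antisymm (Continuous.le_induced ((continuous_map _).prodMk (continuous_map _))) ?_⟩
  rw [heq]
  letI τ := TopologicalSpace.induced F inferInstance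
  have hF : Continuous F := continuous_induced_dom
  let T : Subring Γ(pullback f g, ⊤) :=
    { carrier := {s | Continuous fun z : Pts (pullback f g) => z.evTop s}
      mul_mem' := fun {s t} hs ht => by
        change Continuous _
        simp only [show ∀ z : Pts (pullback f g), z.evTop (s * t) = z.evTop s * z.evTop t from
          fun z => map_mul (evHom z ⊤ trivial) s t]
        exact hs.mul ht
      one_mem' := by
        change Continuous _
        simp only [show ∀ z : Pts (pullback f g), z.evTop 1 = 1 from fun z => map_one (evHom z ⊤ trivial)]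
        exact continuous_const
      add_mem' := fun {s t} hs ht => by
        change Continuous _
        simp only [show ∀ z : Pts (pullback f g), z.evTop (s + t) = z.evTop s + z.evTop t from
          fun z => map_add (evHom z ⊤ trivial) s t]
        exact hs.add ht
      zero_mem' := by
        change Continuous _
        simp only [show ∀ z : Pts (pullback f g), z.evTop 0 = 0 from fun z => map_zero (evHom z ⊤ trivial)]
        exact continuous_const
      neg_mem' := fun {s} hs => by
        change Continuous _
        simp only [show ∀ z : Pts (pullback f g), z.evTop (-s) = -z.evTop s from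
          fun z => map_neg (evHom z ⊤ trivial) s]
        exact hs.neg }
  refine Continuous.le_induced (continuous_pi fun s => ?_)
  refine mem_of_isPushout (isPushout_appTop_of_isPullback (IsPullback.of_hasPullback f g)) T (fun a => ?_) (fun b => ?_) s
  · change Continuous (fun z : Pts (pullback f g) => z.evTop ((pullback.fst f g).appTop a))
    rw [show (fun z : Pts (pullback f g) => z.evTop ((pullback.fst f g).appTop a)) =
      (fun q : Pts X × Pts Y => q.1.evTop a) ∘ F from funext fun z => (evTop_map (pullback.fst f g) z a).symm]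
    exact (hA a).comp hF
  · change Continuous (fun z : Pts (pullback f g) => z.evTop ((pullback.snd f g).appTop b))
    rw [show (fun z : Pts (pullback f g) => z.evTop ((pullback.snd f g).appTop b)) =
      (fun q : Pts X × Pts Y => q.2.evTop b) ∘ F from funext fun z => (evTop_map (pullback.snd f g) z b).symm]
    exact (hB b).comp hF

theorem isEmbedding_prod_str :
    letI := isOver_str X; letI := isOver_str Y
    IsEmbedding fun z : Pts (pullback (X ↘ SC) (Y ↘ SC)) =>
      (Pts.map (pullback.fst _ _) z, Pts.map (pullback.snd _ _) z) := by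
  letI := isOver_str X; letI := isOver_str Y
  let Q := pullback (X ↘ SC) (Y ↘ SC)
  let F := fun z : Pts Q => (Pts.map (pullback.fst (X ↘ SC) (Y ↘ SC)) z, Pts.map (pullback.snd (X ↘ SC) (Y ↘ SC)) z)
  refine ⟨⟨le_antisymm (Continuous.le_induced ((continuous_map _).prodMk (continuous_map _))) fun O hO => ?_⟩, ?_⟩
  · refine (@isOpen_iff_forall_mem_open _ (induced F inferInstance) _).2 fun z hz => ?_
    obtain ⟨U, hzU, -, hU⟩ := exists_affine_chart (U := ⊤) (Pts.map (pullback.fst (X ↘ SC) (Y ↘ SC)) z) trivial
    obtain ⟨V, hzV, -, hV⟩ := exists_affine_chart (U := ⊤) (Pts.map (pullback.snd (X ↘ SC) (Y ↘ SC)) z) trivial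
    letI := opensOver U; letI := opensOver V
    haveI : U.ι.IsOver SC := ⟨rfl⟩
    haveI : V.ι.IsOver SC := ⟨rfl⟩
    haveI : IsAffine (U : Scheme) := hU
    haveI : IsAffine (V : Scheme) := hV
    letI := isOver_str (U : Scheme); letI := isOver_str (V : Scheme)
    let m : pullback ((U : Scheme) ↘ SC) ((V : Scheme) ↘ SC) ⟶ Q :=
      pullback.map _ _ _ _ U.ι V.ι (𝟙 SC) (Category.comp_id _) (Category.comp_id _)
    haveI : IsOpenImmersion m := inferInstanceAs (IsOpenImmersion (pullback.map _ _ _ _ U.ι V.ι (𝟙 SC) _ _))
    haveI : m.IsOver SC := ⟨by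
      change m ≫ pullback.fst _ _ ≫ (X ↘ SC) = pullback.fst _ _ ≫ U.ι ≫ (X ↘ SC)
      rw [← Category.assoc, pullback.lift_fst, Category.assoc]⟩
    obtain ⟨O₁, hO₁, hO₁'⟩ := (isInducing_prod_affine ((U : Scheme) ↘ SC) ((V : Scheme) ↘ SC)).isOpen_iff.1
      (hO.preimage (continuous_map m))
    have hj : IsOpenEmbedding (Prod.map (Pts.map U.ι) (Pts.map V.ι)) :=
      (isOpenEmbedding_map U.ι).prodMap (isOpenEmbedding_map V.ι)
    have hm : ∀ w, F (Pts.map m w) = Prod.map (Pts.map U.ι) (Pts.map V.ι)
        (Pts.map (pullback.fst _ _) w, Pts.map (pullback.snd _ _) w) := fun w =>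
      Prod.ext (Subtype.ext (by simp [F, m, map_val])) (Subtype.ext (by simp [F, m, map_val]))
    have hrange : ∀ w : Pts Q, F w ∈ Set.range (Prod.map (Pts.map U.ι) (Pts.map V.ι)) →
        w ∈ Set.range (Pts.map m) := by
      intro w hw
      rw [Set.range_prodMap] at hw
      rw [range_map_of_isOpenImmersion, Set.mem_preimage, Scheme.Pullback.range_map]
      refine ⟨?_, ?_⟩
      · have := hw.1
        rw [range_map_of_isOpenImmersion, Set.mem_preimage, pt_map] at this
        exact this
      · have := hw.2
        rw [range_map_of_isOpenImmersion, Set.mem_preimage, pt_map] at this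
        exact this
    refine ⟨F ⁻¹' (Prod.map (Pts.map U.ι) (Pts.map V.ι) '' O₁), ?_, isOpen_induced (hj.isOpenMap _ hO₁), ?_⟩
    · rintro w hw
      obtain ⟨w', rfl⟩ := hrange w ((Set.image_subset_range _ _) hw)
      obtain ⟨a, ha, hae⟩ := hw
      rw [hm] at hae
      rw [hj.injective hae] at ha
      exact hO₁'.le ha
    · obtain ⟨z', rfl⟩ := hrange z (by
        rw [Set.range_prodMap]
        exact ⟨by rw [range_map_of_isOpenImmersion, Set.mem_preimage, Scheme.Opens.range_ι]; exact hzU,
          by rw [range_map_of_isOpenImmersion, Set.mem_preimage, Scheme.Opens.range_ι]; exact hzV⟩)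
      exact ⟨_, hO₁'.ge hz, (hm z').symm⟩
  · intro z w h
    exact Subtype.ext (pullback.hom_ext (congrArg Subtype.val (Prod.ext_iff.1 h).1)
      (congrArg Subtype.val (Prod.ext_iff.1 h).2))

variable [LocallyOfFiniteType (X ↘ SC)] [LocallyOfFiniteType (Y ↘ SC)] [LocallyOfFiniteType (S ↘ SC)]

omit [LocallyOfFiniteType (Y ↘ SC)] in
theorem locallyOfFiniteType_pullback (f : X ⟶ S) (g : Y ⟶ S) [f.IsOver SC] [g.IsOver SC] [LocallyOfFiniteType g] :
    LocallyOfFiniteType (pullback f g ↘ SC) :=
  inferInstanceAs (LocallyOfFiniteType (pullback.fst f g ≫ (X ↘ SC)))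

theorem isHomeomorph_pullback (f : X ⟶ S) (g : Y ⟶ S) [f.IsOver SC] [g.IsOver SC] :
    IsHomeomorph (fun z : Pts (pullback f g) =>
      (⟨(Pts.map (pullback.fst f g) z, Pts.map (pullback.snd f g) z), Pts.map_pullback_condition f g z⟩ :
        {q : Pts X × Pts Y // Pts.map f q.1 = Pts.map g q.2})) := by
  rw [isHomeomorph_iff_isEmbedding_surjective]
  constructor
  · refine IsEmbedding.of_comp (((continuous_map (pullback.fst f g)).prodMk (continuous_map (pullback.snd f g))).subtype_mk _) continuous_subtype_val ?_
    haveI := locallyOfFiniteType_of_isOver g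
    haveI := locallyOfFiniteType_pullback f g
    letI := isOver_str X; letI := isOver_str Y
    haveI : LocallyOfFiniteType (pullback (X ↘ SC) (Y ↘ SC) ↘ SC) :=
      inferInstanceAs (LocallyOfFiniteType (pullback.fst (X ↘ SC) (Y ↘ SC) ≫ (X ↘ SC)))
    let m : pullback f g ⟶ pullback (X ↘ SC) (Y ↘ SC) :=
      pullback.lift (pullback.fst f g) (pullback.snd f g) (by
        rw [← comp_over f (S := SC), ← comp_over g (S := SC), ← Category.assoc, pullback.condition, Category.assoc])
    haveI : m.IsOver SC := ⟨by
      change m ≫ pullback.fst _ _ ≫ (X ↘ SC) = pullback.fst _ _ ≫ (X ↘ SC)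
      rw [pullback.lift_fst_assoc]⟩
    haveI : IsImmersion m := by
      let e : pullback (f ≫ (S ↘ SC)) (g ≫ (S ↘ SC)) ≅ pullback (X ↘ SC) (Y ↘ SC) :=
        pullback.congrHom (comp_over f (S := SC)) (comp_over g (S := SC))
      have : m = pullback.mapDesc f g (S ↘ SC) ≫ e.hom := by
        apply pullback.hom_ext <;> simp [m, e]
      rw [this]
      infer_instance
    have h := (isEmbedding_prod_str (X := X) (Y := Y)).comp (isEmbedding_map_of_isImmersion m).1
    convert h using 1
    funext z
    exact Prod.ext (Subtype.ext (by simp [m, map_val])) (Subtype.ext (by simp [m, map_val]))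
  · rintro ⟨⟨x, y⟩, h⟩
    have h' : x.1 ≫ f = y.1 ≫ g := congrArg Subtype.val h
    refine ⟨⟨pullback.lift x.1 y.1 h', ?_⟩, Subtype.ext (Prod.ext (Subtype.ext ?_) (Subtype.ext ?_))⟩
    · change pullback.lift x.1 y.1 h' ≫ pullback.fst f g ≫ (X ↘ SC) = 𝟙 SC
      rw [pullback.lift_fst_assoc, x.2]
    · exact pullback.lift_fst _ _ _
    · exact pullback.lift_snd _ _ _

theorem isLocallyConstructible_of_isClosed {Z : Set X} (hZ : IsClosed Z) : IsLocallyConstructible Z := by
  haveI : IsLocallyNoetherian X := LocallyOfFiniteType.isLocallyNoetherian (X ↘ SC)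
  intro x
  obtain ⟨_, ⟨W, hW, rfl⟩, hxW, -⟩ := X.isBasis_affineOpens.exists_subset_of_mem_open (Set.mem_univ x) isOpen_univ
  haveI : IsAffine (Scheme.Opens.toScheme W) := hW
  haveI : IsLocallyNoetherian (Scheme.Opens.toScheme W) := LocallyOfFiniteType.isLocallyNoetherian (Scheme.Opens.ι W)
  haveI := isNoetherian_of_isAffine (Scheme.Opens.toScheme W)
  exact ⟨W, W.2.mem_nhds hxW, W.2,
    ConstrNoeth.isConstructible_of_isClosed (X := (Scheme.Opens.toScheme W)) (hZ.preimage continuous_subtype_val)⟩

theorem isLocallyConstructible_range (f : X ⟶ Y) [f.IsOver SC] [QuasiCompact f] :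
    IsLocallyConstructible (Set.range f) := by
  haveI : IsLocallyNoetherian Y := LocallyOfFiniteType.isLocallyNoetherian (Y ↘ SC)
  haveI := locallyOfFiniteType_of_isOver f
  haveI : LocallyOfFinitePresentation f := by
    refine ⟨fun {V} hV {U} hU e => ?_⟩
    haveI : IsNoetherianRing Γ(Y, V) := IsLocallyNoetherian.component_noetherian ⟨V, hV⟩
    exact RingHom.FinitePresentation.of_finiteType.mp (f.finiteType_appLE hV hU e)
  rw [← Set.image_univ]
  exact f.isLocallyConstructible_image .univ

theorem surjective_iff (f : X ⟶ Y) [f.IsOver SC] [QuasiCompact f] :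
    Function.Surjective f ↔ Function.Surjective (Pts.map f) := by
  rw [← Set.range_eq_univ, ← Set.range_eq_univ, range_map]
  exact ⟨fun h => by rw [h, Set.preimage_univ], eq_univ_of_preimage (isLocallyConstructible_range f)⟩

theorem denseRange_iff (f : X ⟶ Y) [f.IsOver SC] [QuasiCompact f] : DenseRange f ↔ DenseRange (Pts.map f) := by
  rw [DenseRange, DenseRange, range_map, dense_iff_closure_eq, dense_iff_closure_eq,
    ← preimage_closure _ (isLocallyConstructible_range f)]
  exact ⟨fun h => by rw [h, Set.preimage_univ], fun h =>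
    eq_univ_of_preimage (isLocallyConstructible_of_isClosed isClosed_closure) h⟩

theorem dense_iff {T : Set X} (hT : IsLocallyConstructible T) : Dense T ↔ Dense (pt ⁻¹' T : Set (Pts X)) := by
  rw [dense_iff_closure_eq, dense_iff_closure_eq, ← preimage_closure _ hT]
  exact ⟨fun h => by rw [h, Set.preimage_univ], fun h =>
    eq_univ_of_preimage (isLocallyConstructible_of_isClosed isClosed_closure) h⟩

theorem isClosed_iff {T : Set X} (hT : IsLocallyConstructible T) : IsClosed T ↔ IsClosed (pt ⁻¹' T : Set (Pts X)) := by
  refine ⟨fun h => h.preimage continuous_pt, fun h => ?_⟩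
  refine isClosed_of_closure_subset (subset_of_preimage_subset (isLocallyConstructible_of_isClosed isClosed_closure) hT ?_)
  rw [preimage_closure _ hT, h.closure_eq]

theorem isOpen_iff {T : Set X} (hT : IsLocallyConstructible T) : IsOpen T ↔ IsOpen (pt ⁻¹' T : Set (Pts X)) := by
  rw [← isClosed_compl_iff, isClosed_iff (isLocallyConstructible_compl hT), Set.preimage_compl, isClosed_compl_iff]

/-- The diagonal as a map on points. -/
theorem range_diagonal (f : X ⟶ Y) [f.IsOver SC] :
    (pt ⁻¹' Set.range (pullback.diagonal f) : Set (Pts (pullback f f))) =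
      {z | Pts.map (pullback.fst f f) z = Pts.map (pullback.snd f f) z} := by
  haveI := locallyOfFiniteType_of_isOver f
  haveI := locallyOfFiniteType_pullback f f
  haveI : (pullback.diagonal f).IsOver SC := ⟨by
    change pullback.diagonal f ≫ pullback.fst f f ≫ (X ↘ SC) = X ↘ SC
    rw [pullback.diagonal_fst_assoc]⟩
  rw [← range_map]
  ext z
  constructor
  · rintro ⟨x, rfl⟩
    exact Subtype.ext (by simp [map_val])
  · intro h
    refine ⟨Pts.map (pullback.fst f f) z, Subtype.ext (pullback.hom_ext (by simp [map_val]) ?_)⟩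
    simp only [map_val, Category.assoc, pullback.diagonal_snd, Category.comp_id]
    exact congrArg Subtype.val h

theorem injective_iff (f : X ⟶ Y) [f.IsOver SC] : Function.Injective f ↔ Function.Injective (Pts.map f) := by
  constructor
  · intro h x y e
    refine pt_injective (h ?_)
    rw [← pt_map f, ← pt_map f, e]
  · intro h x y e
    haveI := locallyOfFiniteType_of_isOver f
    haveI := locallyOfFiniteType_pullback f f
    obtain ⟨z, hz₁, hz₂⟩ := Scheme.Pullback.exists_preimage_pullback x y e
    have hsurj : Set.range (pullback.diagonal f) = Set.univ := by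
      by_contra hne
      obtain ⟨U, C, hU, hC, hUC⟩ := (pullback.diagonal f).isLocallyClosed_range
      rw [← Ne, ← Set.nonempty_compl, hUC, Set.compl_inter] at hne
      have hall : ∀ a : Pts (pullback f f), a.pt ∈ Set.range (pullback.diagonal f) := fun a =>
        (range_diagonal f).ge (h (Pts.map_pullback_condition f f a))
      rcases Set.union_nonempty.1 hne with hn | hn
      · obtain ⟨a, ha⟩ := exists_pts_mem hU.isClosed_compl.isLocallyClosed hn
        exact ha (hUC.le (hall a)).1
      · obtain ⟨a, ha⟩ := exists_pts_mem hC.isOpen_compl.isLocallyClosed hn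
        exact ha (hUC.le (hall a)).2
    obtain ⟨w, hw⟩ := hsurj.ge (Set.mem_univ z)
    rw [← hz₁, ← hz₂, ← hw, ← Scheme.Hom.comp_apply, ← Scheme.Hom.comp_apply, pullback.diagonal_fst, pullback.diagonal_snd]

theorem isSeparated_iff (f : X ⟶ Y) [f.IsOver SC] : IsSeparated f ↔ IsSeparatedMap (Pts.map f) := by
  haveI := locallyOfFiniteType_of_isOver f
  haveI := locallyOfFiniteType_pullback f f
  have hhom := isHomeomorph_pullback f f
  let Φ := hhom.homeomorph
  have hdiag : Φ ⁻¹' (Function.pullbackDiagonal (Pts.map f)) =
      (pt ⁻¹' Set.range (pullback.diagonal f) : Set (Pts (pullback f f))) := by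
    rw [range_diagonal]
    rfl
  have hc : IsLocallyConstructible (Set.range (pullback.diagonal f)) := by
    obtain ⟨U, C, hU, hC, hUC⟩ := (pullback.diagonal f).isLocallyClosed_range
    rw [hUC]
    refine IsLocallyConstructible.inter ?_ (isLocallyConstructible_of_isClosed hC)
    rw [← compl_compl U]
    exact isLocallyConstructible_compl (isLocallyConstructible_of_isClosed hU.isClosed_compl)
  rw [isSeparatedMap_iff_isClosed_diagonal, ← Φ.isClosed_preimage, hdiag, ← isClosed_iff hc]
  constructor
  · intro h
    exact (pullback.diagonal f).isClosedEmbedding.isClosed_range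
  · intro h
    exact ⟨IsClosedImmersion.of_isPreimmersion _ h⟩

end

end Groth.Agent.AnPts
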