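import Mathlib
import Groth.Prelude.Def_AnPts
import Groth.Prelude.Def_AnEps
import Groth.Agent.AnPts.Closure

/-! Etale morphisms induce local homeomorphisms on complex points. -/

set_option autoImplicit false
set_option backward.isDefEq.respectTransparency false
set_option backward.isDefEq.respectTransparency.types false

open AlgebraicGeometry CategoryTheory TopologicalSpace Opposite Topology Polynomial

namespace Groth.Agent.AnPts

open An An.Pts

noncomputable section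

theorem exists_root_near {p : ℂ[X]} (hp : p.Monic) (hd : 0 < p.natDegree) (t : ℂ) :
    ∃ r, p.eval r = 0 ∧ ‖r - t‖ ^ p.natDegree ≤ ‖p.eval t‖ := by
  have hm : (p.comp (X + C t)).Monic := hp.comp_X_add_C t
  have hdeg : (p.comp (X + C t)).natDegree = p.natDegree := by rw [natDegree_comp, natDegree_X_add_C, mul_one]
  obtain ⟨s, hs, hsle⟩ := exists_root_norm_pow_le hm (by rw [hdeg]; exact hd)
  refine ⟨s + t, by simpa [eval_comp] using hs, ?_⟩
  rw [add_sub_cancel_right, ← hdeg]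
  refine hsle.trans (le_of_eq ?_)
  rw [coeff_zero_eq_eval_zero, eval_comp]
  simp

/-- The divided difference of a polynomial. -/
def dd (p : ℂ[X]) (d : ℕ) (s t : ℂ) : ℂ :=
  ∑ i ∈ Finset.range (d + 1), p.coeff i * ∑ j ∈ Finset.range i, s ^ j * t ^ (i - 1 - j)

theorem dd_mul_sub (p : ℂ[X]) (d : ℕ) (hd : p.natDegree ≤ d) (s t : ℂ) : dd p d s t * (s - t) = p.eval s - p.eval t := by
  rw [dd, Finset.sum_mul, eval_eq_sum_range' (Nat.lt_succ_of_le hd), eval_eq_sum_range' (Nat.lt_succ_of_le hd),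
    ← Finset.sum_sub_distrib]
  refine Finset.sum_congr rfl fun i _ => ?_
  rw [mul_assoc, geom_sum₂_mul, mul_sub]

theorem dd_self (p : ℂ[X]) (d : ℕ) (hd : p.natDegree ≤ d) (s : ℂ) : dd p d s s = p.derivative.eval s := by
  rw [derivative_eval, p.sum_over_range' (fun n => by simp) (d + 1) (Nat.lt_succ_of_le hd), dd]
  refine Finset.sum_congr rfl fun i _ => ?_
  rw [geom_sum₂_self]
  ring

variable {X' Y : Scheme.{0}} [X'.Over SC] [Y.Over SC] [IsAffine Y]

theorem continuous_eval_map {α : Type*} [TopologicalSpace α] {y : α → Pts Y} {s : α → ℂ} (hy : Continuous y)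
    (hs : Continuous s) (p : Γ(Y, ⊤)[X]) : Continuous fun a => (p.map (evHom (y a) ⊤ trivial)).eval (s a) := by
  have : ∀ a, (p.map (evHom (y a) ⊤ trivial)).eval (s a) =
      ∑ i ∈ Finset.range (p.natDegree + 1), (y a).evTop (p.coeff i) * s a ^ i := fun a => by
    rw [eval_eq_sum_range' (Nat.lt_succ_of_le natDegree_map_le)]
    exact Finset.sum_congr rfl fun i _ => by rw [coeff_map]; rfl
  simp only [this]
  exact continuous_finsetSum _ fun i _ =>
    (((continuous_apply (p.coeff i)).comp (isInducing_evTop (X := Y)).continuous).comp hy).mul (hs.pow i)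

theorem continuous_dd_map {α : Type*} [TopologicalSpace α] {y : α → Pts Y} {s t : α → ℂ} (hy : Continuous y)
    (hs : Continuous s) (ht : Continuous t) (p : Γ(Y, ⊤)[X]) :
    Continuous fun a => dd (p.map (evHom (y a) ⊤ trivial)) p.natDegree (s a) (t a) := by
  refine continuous_finsetSum _ fun i _ => Continuous.mul ?_
    (continuous_finsetSum _ fun j _ => (hs.pow j).mul (ht.pow _))
  simp only [coeff_map]
  exact ((continuous_apply (p.coeff i)).comp (isInducing_evTop (X := Y)).continuous).comp hy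

/-- The affine case: near a point where the ring map is standard etale, the map on points is injective and open. -/
theorem exists_nhd_of_etale [IsAffine X'] (g : X' ⟶ Y) [g.IsOver SC] [Etale g] (x : Pts X') :
    ∃ O : Set (Pts X'), IsOpen O ∧ x ∈ O ∧ Set.InjOn (Pts.map g) O ∧
      ∀ O' ⊆ O, IsOpen O' → IsOpen (Pts.map g '' O') := by
  algebraize [g.appTop.hom]
  have hetale : g.appTop.hom.Etale := HasRingHomProperty.appTop (P := @Etale) g ‹_›
  haveI : Algebra.Etale Γ(Y, ⊤) Γ(X', ⊤) := hetale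
  let Q : Ideal Γ(X', ⊤) := RingHom.ker (evHom x ⊤ trivial)
  haveI : Q.IsPrime := RingHom.ker_isPrime _
  obtain ⟨h, hhQ, hstd⟩ := Algebra.IsEtaleAt.exists_isStandardEtale (R := Γ(Y, ⊤)) Q
  obtain ⟨Pr⟩ := hstd.nonempty_standardEtalePresentation
  let L := Localization.Away h
  let W : Set (Pts X') := {z | z.evTop h ≠ 0}
  have hev : ∀ a : Γ(X', ⊤), Continuous fun z : Pts X' => z.evTop a := fun a =>
    (continuous_apply a).comp (isInducing_evTop (X := X')).continuous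
  have hW : IsOpen W := isOpen_ne.preimage (hev h)
  -- extension of evaluation to the localisation
  let ψ : ∀ z ∈ W, L →+* ℂ := fun z hz =>
    IsLocalization.Away.lift (S := L) h (g := evHom z ⊤ trivial) (IsUnit.mk0 _ hz)
  have hψ : ∀ z hz a, ψ z hz (algebraMap _ L a) = z.evTop a := fun z hz a => IsLocalization.Away.lift_eq _ _ _
  have hψY : ∀ z hz (p : Γ(Y, ⊤)[X]) (l : L), ψ z hz (aeval l p) =
      (p.map (evHom (Pts.map g z) ⊤ trivial)).eval (ψ z hz l) := fun z hz p l => by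
    rw [aeval_def, hom_eval₂, Polynomial.eval_map]
    congr 1
    refine RingHom.ext fun a => ?_
    rw [RingHom.comp_apply, IsScalarTower.algebraMap_apply Γ(Y, ⊤) Γ(X', ⊤) L, hψ z hz, evHom_apply]
    exact (evTop_map g z a).symm
  obtain ⟨⟨b, m⟩, hb⟩ := IsLocalization.surj (Submonoid.powers h) Pr.x
  obtain ⟨n, hn⟩ : ∃ n : ℕ, h ^ n = (m : Γ(X', ⊤)) := m.2
  let τ : Pts X' → ℂ := fun z => z.evTop b / z.evTop h ^ n
  have hτψ : ∀ z (hz : z ∈ W), ψ z hz Pr.x = τ z := fun z hz => by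
    have h1 := congrArg (ψ z hz) hb
    rw [map_mul, hψ z hz, hψ z hz, ← hn] at h1
    change ψ z hz Pr.x * evHom z ⊤ trivial (h ^ n) = z.evTop b at h1
    rw [map_pow] at h1
    rw [eq_div_iff (pow_ne_zero _ hz)]
    exact h1
  have hτc : ContinuousOn τ W :=
    (hev b).continuousOn.div ((hev h).pow n).continuousOn fun z hz => pow_ne_zero _ hz
  let ev₁ : Pts Y → Γ(Y, ⊤)[X] → ℂ → ℂ := fun y p s => (p.map (evHom y ⊤ trivial)).eval s
  have hroot : ∀ z, z ∈ W → ev₁ (Pts.map g z) Pr.f (τ z) = 0 ∧ ev₁ (Pts.map g z) Pr.g (τ z) ≠ 0 := by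
    intro z hz
    constructor
    · have := congrArg (ψ z hz) Pr.hasMap.1
      rw [map_zero, hψY z hz, hτψ z hz] at this
      exact this
    · have := (Pr.hasMap.2.map (ψ z hz)).ne_zero
      rw [hψY z hz, hτψ z hz] at this
      exact this
  -- a point is determined by the pair (image, coordinate), and every pair comes from a point
  have hformula : ∀ a : Γ(X', ⊤), ∃ (p : Γ(Y, ⊤)[X]) (N : ℕ), ∀ z ∈ W,
      z.evTop a = ev₁ (Pts.map g z) p (τ z) / ev₁ (Pts.map g z) Pr.g (τ z) ^ N := by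
    intro a
    obtain ⟨p, N, hp⟩ := Pr.exists_mul_aeval_x_g_pow_eq_aeval_x (algebraMap _ L a)
    refine ⟨p, N, fun z hz => ?_⟩
    have := congrArg (ψ z hz) hp
    rw [map_mul, map_pow, hψY z hz, hψY z hz, hτψ z hz, hψ z hz] at this
    rw [eq_div_iff (pow_ne_zero _ (hroot z hz).2)]
    exact this
  have hext : ∀ z ∈ W, ∀ z' ∈ W, Pts.map g z = Pts.map g z' → τ z = τ z' → z = z' := by
    intro z hz z' hz' he hτ
    refine ext_of_evTop fun a => ?_
    obtain ⟨p, N, hp⟩ := hformula a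
    rw [hp z hz, hp z' hz', he, hτ]
  have hlift : ∀ (y : Pts Y) (s : ℂ), ev₁ y Pr.f s = 0 → ev₁ y Pr.g s ≠ 0 →
      ∃ z ∈ W, Pts.map g z = y ∧ τ z = s := by
    intro y s hf hg
    letI : Algebra Γ(Y, ⊤) ℂ := (evHom y ⊤ trivial).toAlgebra
    have hae : ∀ p : Γ(Y, ⊤)[X], aeval s p = ev₁ y p s := fun p => by
      simp only [ev₁, Polynomial.eval_map, aeval_def, RingHom.algebraMap_toAlgebra]
    have hm : Pr.P.HasMap s := ⟨by rw [hae]; exact hf, IsUnit.mk0 _ (by rw [hae]; exact hg)⟩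
    let χ : L →ₐ[Γ(Y, ⊤)] ℂ := (Pr.P.lift s hm).comp Pr.equivRing.toAlgHom
    obtain ⟨z, hz⟩ := exists_of_ringHom (X := X') ((χ : L →+* ℂ).comp (algebraMap Γ(X', ⊤) L)) fun c => by
      have hc : strHom X' c = algebraMap Γ(Y, ⊤) Γ(X', ⊤) (strHom Y c) := by
        change (X' ↘ SC).appTop ((Scheme.ΓSpecIso (CommRingCat.of ℂ)).inv c) =
          ((Y ↘ SC).appTop ≫ g.appTop) ((Scheme.ΓSpecIso (CommRingCat.of ℂ)).inv c)
        rw [← Scheme.Hom.comp_appTop, comp_over g]
      rw [RingHom.comp_apply, hc, ← IsScalarTower.algebraMap_apply]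
      exact (χ.commutes _).trans (evTop_strHom y c)
    have hzW : z ∈ W := by
      change z.evTop h ≠ 0
      rw [hz]
      exact ((IsLocalization.Away.algebraMap_isUnit (S := L) h).map (χ : L →+* ℂ)).ne_zero
    have hψχ : ψ z hzW = (χ : L →+* ℂ) := by
      refine IsLocalization.ringHom_ext (Submonoid.powers h) (RingHom.ext fun a => ?_)
      exact (hψ z hzW a).trans (hz a)
    refine ⟨z, hzW, ext_of_evTop fun a => ?_, ?_⟩
    · rw [evTop_map, hz, RingHom.comp_apply]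
      change χ (algebraMap Γ(X', ⊤) L (algebraMap Γ(Y, ⊤) Γ(X', ⊤) a)) = _
      rw [← IsScalarTower.algebraMap_apply]
      exact χ.commutes a
    · rw [← hτψ z hzW, hψχ]
      change Pr.P.lift s hm (Pr.equivRing Pr.x) = s
      rw [StandardEtalePresentation.equivRing_x, StandardEtalePair.lift_X]
  have hxW : x ∈ W := hhQ
  -- separation of roots near the point
  have hdeg : ∀ y : Pts Y, (Pr.f.map (evHom y ⊤ trivial)).natDegree ≤ Pr.f.natDegree := fun y => natDegree_map_le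
  have hD0 : dd (Pr.f.map (evHom (Pts.map g x) ⊤ trivial)) Pr.f.natDegree (τ x) (τ x) ≠ 0 := by
    rw [dd_self _ _ (hdeg _)]
    intro h0
    obtain ⟨p₁, p₂, k, hk⟩ := Pr.cond
    have := congrArg (fun q : Γ(Y, ⊤)[X] => ev₁ (Pts.map g x) q (τ x)) hk
    simp only [ev₁, Polynomial.map_add, Polynomial.map_mul, Polynomial.map_pow, eval_add, eval_mul, eval_pow,
      ← derivative_map, h0, (hroot x hxW).1, zero_mul, add_zero] at this
    exact pow_ne_zero k (hroot x hxW).2 (by simpa [ev₁, (hroot x hxW).1] using this.symm)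
  let Dset : Set (Pts Y × ℂ × ℂ) := {q | dd (Pr.f.map (evHom q.1 ⊤ trivial)) Pr.f.natDegree q.2.1 q.2.2 ≠ 0}
  have hDo : IsOpen Dset := isOpen_ne.preimage
    (continuous_dd_map continuous_fst (continuous_fst.comp continuous_snd) (continuous_snd.comp continuous_snd) _)
  obtain ⟨V, T, hV, hT, hxV, hxT, hVT⟩ := isOpen_prod_iff.1 hDo (Pts.map g x) (τ x, τ x) hD0
  obtain ⟨T₁, T₂, hT₁, hT₂, hx₁, hx₂, hT12⟩ := isOpen_prod_iff.1 hT (τ x) (τ x) hxT
  let O : Set (Pts X') := W ∩ Pts.map g ⁻¹' V ∩ (W ∩ τ ⁻¹' (T₁ ∩ T₂))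
  have hO : IsOpen O := (hW.inter (hV.preimage (continuous_map g))).inter
    (hτc.isOpen_inter_preimage hW (hT₁.inter hT₂))
  refine ⟨O, hO, ⟨⟨hxW, hxV⟩, hxW, hx₁, hx₂⟩, ?_, fun O' hO'O hO' => ?_⟩
  · rintro z ⟨⟨hz, hzV⟩, -, hz1, -⟩ z' ⟨⟨hz', -⟩, -, -, hz'2⟩ he
    refine hext z hz z' hz' he ?_
    have hD := hVT (Set.mk_mem_prod hzV (hT12 (Set.mk_mem_prod hz1 hz'2)))
    have hmul := dd_mul_sub (Pr.f.map (evHom (Pts.map g z) ⊤ trivial)) Pr.f.natDegree (hdeg _) (τ z) (τ z')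
    have h2 : ev₁ (Pts.map g z) Pr.f (τ z') = 0 := by rw [he]; exact (hroot z' hz').1
    rw [show (Pr.f.map (evHom (Pts.map g z) ⊤ trivial)).eval (τ z) = 0 from (hroot z hz).1,
      show (Pr.f.map (evHom (Pts.map g z) ⊤ trivial)).eval (τ z') = 0 from h2, sub_zero, mul_eq_zero] at hmul
    exact sub_eq_zero.1 (hmul.resolve_left hD)
  · -- openness
    refine isOpen_iff_mem_nhds.2 ?_
    rintro _ ⟨z₁, hz₁, rfl⟩
    have hz₁W : z₁ ∈ W := (hO'O hz₁).1.1
    let Z := {q : Pts Y × ℂ // ev₁ q.1 Pr.f q.2 = 0 ∧ ev₁ q.1 Pr.g q.2 ≠ 0}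
    choose back hbackW hback₁ hback₂ using fun q : Z => hlift q.1.1 q.1.2 q.2.1 q.2.2
    have hbc : Continuous back := by
      rw [(isInducing_evTop (X := X')).continuous_iff]
      refine continuous_pi fun a => ?_
      obtain ⟨p, N, hp⟩ := hformula a
      have : (fun q : Z => (back q).evTop a) = fun q : Z => ev₁ q.1.1 p q.1.2 / ev₁ q.1.1 Pr.g q.1.2 ^ N := by
        funext q
        rw [hp _ (hbackW q), hback₁, hback₂]
      change Continuous fun q : Z => (back q).evTop a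
      rw [this]
      exact (continuous_eval_map (continuous_fst.comp continuous_subtype_val) (continuous_snd.comp continuous_subtype_val) p).div
        ((continuous_eval_map (continuous_fst.comp continuous_subtype_val) (continuous_snd.comp continuous_subtype_val) Pr.g).pow N)
        fun q => pow_ne_zero _ q.2.2
    let q₁ : Z := ⟨(Pts.map g z₁, τ z₁), hroot z₁ hz₁W⟩
    have hq₁ : back q₁ = z₁ := hext _ (hbackW q₁) _ hz₁W (hback₁ q₁) (hback₂ q₁)
    obtain ⟨B, hB, hBeq⟩ := isOpen_induced_iff.1 (hO'.preimage hbc)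
    have hB₁ : (Pts.map g z₁, τ z₁) ∈ B := hBeq.ge (show back q₁ ∈ O' by rw [hq₁]; exact hz₁)
    let B' : Set (Pts Y × ℂ) := B ∩ {q | ev₁ q.1 Pr.g q.2 ≠ 0}
    have hB' : IsOpen B' := hB.inter (isOpen_ne.preimage (continuous_eval_map continuous_fst continuous_snd _))
    obtain ⟨V₁, S₁, hV₁, hS₁, hyV₁, htS₁, hVS⟩ := isOpen_prod_iff.1 hB' _ _ ⟨hB₁, (hroot z₁ hz₁W).2⟩
    obtain ⟨ε, hε, hεS⟩ := Metric.isOpen_iff.1 hS₁ _ htS₁
    let V₂ : Set (Pts Y) := V₁ ∩ (fun y => ev₁ y Pr.f (τ z₁)) ⁻¹' Metric.ball 0 (ε ^ Pr.f.natDegree)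
    have hV₂ : IsOpen V₂ := hV₁.inter (Metric.isOpen_ball.preimage (continuous_eval_map continuous_id continuous_const _))
    refine Filter.mem_of_superset (hV₂.mem_nhds ⟨hyV₁, ?_⟩) ?_
    · simp only [Set.mem_preimage, Metric.mem_ball, (hroot z₁ hz₁W).1, dist_self]
      positivity
    rintro y ⟨hy₁, hy₂⟩
    simp only [Set.mem_preimage, Metric.mem_ball, dist_zero_right] at hy₂
    have hm := Pr.monic_f.map (evHom y ⊤ trivial)
    have hd : (Pr.f.map (evHom y ⊤ trivial)).natDegree = Pr.f.natDegree := Pr.monic_f.natDegree_map _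
    have hdpos : 0 < Pr.f.natDegree := by
      by_contra h0
      have h1 : Pr.f = 1 := Pr.monic_f.natDegree_eq_zero.1 (by omega)
      have := (hroot z₁ hz₁W).1
      simp [ev₁, h1] at this
    obtain ⟨r, hr, hrle⟩ := exists_root_near hm (by rw [hd]; exact hdpos) (τ z₁)
    rw [hd] at hrle
    have hrε : r ∈ Metric.ball (τ z₁) ε := by
      rw [Metric.mem_ball, dist_eq_norm]
      exact lt_of_pow_lt_pow_left₀ _ hε.le (hrle.trans_lt hy₂)
    have hmem := hVS (Set.mk_mem_prod hy₁ (hεS hrε))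
    let q : Z := ⟨(y, r), hr, hmem.2⟩
    exact ⟨back q, hBeq.le hmem.1, hback₁ q⟩

theorem isLocalHomeomorph_map_of_etale {X Y : Scheme.{0}} [X.Over SC] [Y.Over SC] (g : X ⟶ Y) [g.IsOver SC] [Etale g] :
    IsLocalHomeomorph (Pts.map g) := by
  rw [isLocalHomeomorph_iff_isOpenEmbedding_restrict]
  intro x
  obtain ⟨V, hyV, -, hV⟩ := exists_affine_chart (U := ⊤) (Pts.map g x) trivial
  obtain ⟨U, hxU, hUV, hU⟩ := exists_affine_chart (U := g ⁻¹ᵁ V) x (by rw [pt_map] at hyV; exact hyV)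
  letI := opensOver U; letI := opensOver V
  haveI : U.ι.IsOver SC := ⟨rfl⟩
  haveI : V.ι.IsOver SC := ⟨rfl⟩
  haveI : IsAffine (U : Scheme) := hU
  haveI : IsAffine (V : Scheme) := hV
  let g' : (U : Scheme) ⟶ V := g.resLE V U hUV
  haveI : Etale g' := IsZariskiLocalAtSource.resLE (P := @Etale) hUV ‹Etale g›
  haveI : g'.IsOver SC := ⟨by
    change g' ≫ V.ι ≫ (Y ↘ SC) = U.ι ≫ (X ↘ SC)
    rw [Scheme.Hom.resLE_comp_ι_assoc, comp_over g]⟩
  have he : ∀ z, Pts.map g (Pts.map U.ι z) = Pts.map V.ι (Pts.map g' z) := fun z =>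
    Subtype.ext (by simp [map_val, g'])
  obtain ⟨x', rfl⟩ : x ∈ Set.range (Pts.map U.ι) := by
    rw [range_map_of_isOpenImmersion, Set.mem_preimage, Scheme.Opens.range_ι]; exact hxU
  obtain ⟨O, hO, hxO, hinj, hopen⟩ := exists_nhd_of_etale g' x'
  have hoU := isOpenEmbedding_map U.ι
  refine ⟨Pts.map U.ι '' O, (hoU.isOpenMap _ hO).mem_nhds ⟨x', hxO, rfl⟩, ?_⟩
  refine IsOpenEmbedding.of_continuous_injective_isOpenMap ((continuous_map g).comp continuous_subtype_val) ?_ ?_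
  · rintro ⟨_, z, hz, rfl⟩ ⟨_, w, hw, rfl⟩ h
    simp only [Set.restrict_apply, he] at h
    exact Subtype.ext (congrArg (Pts.map U.ι) (hinj hz hw ((isOpenEmbedding_map V.ι).injective h)))
  · intro A hA
    have hA' : IsOpen (Pts.map U.ι ⁻¹' (Subtype.val '' A)) :=
      ((hoU.isOpenMap _ hO).isOpenMap_subtype_val _ hA).preimage hoU.continuous
    have hAO : Pts.map U.ι ⁻¹' (Subtype.val '' A) ⊆ O := by
      rintro z ⟨⟨_, w, hw, hwe⟩, -, h⟩
      exact hoU.injective (hwe.trans h) ▸ hw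
    have := (isOpenEmbedding_map V.ι).isOpenMap _ (hopen _ hAO hA')
    convert this using 1
    ext w
    constructor
    · rintro ⟨⟨a, z, hz, rfl⟩, ha, rfl⟩
      exact ⟨_, ⟨z, ⟨_, ha, rfl⟩, rfl⟩, (he z).symm⟩
    · rintro ⟨_, ⟨z, ⟨a, ha, hae⟩, rfl⟩, rfl⟩
      exact ⟨a, ha, by rw [Set.restrict_apply, hae, he]⟩

end

end Groth.Agent.AnPts
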