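import Mathlib
import Groth.Prelude.Def_AnPts
import Groth.Agent.AnPts.Morph
import Groth.Agent.AnPts.Etale

/-! Finite morphisms: proper on complex points; finite etale ones give coverings. -/

set_option autoImplicit false
set_option backward.isDefEq.respectTransparency false
set_option backward.isDefEq.respectTransparency.types false

open AlgebraicGeometry CategoryTheory TopologicalSpace Opposite Topology Polynomial Filter

namespace Groth.Agent.AnPts

open An An.Pts

noncomputable section

theorem t2Space_of_isAffine {X : Scheme.{0}} [X.Over SC] [IsAffine X] : T2Space (Pts X) :=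
  (⟨isInducing_evTop, fun _ _ h => ext_of_evTop (congrFun h)⟩ :
    IsEmbedding fun (x : Pts X) (f : Γ(X, ⊤)) => x.evTop f).t2Space

theorem isProperMap_of_finite_affine {X Y : Scheme.{0}} [X.Over SC] [Y.Over SC] [IsAffine X] [IsAffine Y]
    (g : X ⟶ Y) [g.IsOver SC] [IsFinite g] : IsProperMap (Pts.map g) := by
  algebraize [g.appTop.hom]
  haveI : Module.Finite Γ(Y, ⊤) Γ(X, ⊤) := g.finite_appTop
  rw [isProperMap_iff_ultrafilter]
  refine ⟨continuous_map g, fun U y hy => ?_⟩
  have hlim : ∀ a : Γ(X, ⊤), ∃ c : ℂ, Tendsto (fun z : Pts X => z.evTop a) U (𝓝 c) := by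
    intro a
    let p := minpoly Γ(Y, ⊤) a
    have hi : IsIntegral Γ(Y, ⊤) a := Algebra.IsIntegral.isIntegral a
    have hp : p.Monic := minpoly.monic hi
    let F : Pts Y → ℝ := fun w => 1 + ∑ i ∈ Finset.range p.natDegree, ‖w.evTop (p.coeff i)‖
    have hF : Continuous F := continuous_const.add (continuous_finsetSum _ fun i _ =>
      ((continuous_apply (p.coeff i)).comp (isInducing_evTop (X := Y)).continuous).norm)
    have hev : ∀ z : Pts X, ‖z.evTop a‖ ≤ F (Pts.map g z) := fun z => by
      have h0 : (p.map (evHom (Pts.map g z) ⊤ trivial)).eval (z.evTop a) = 0 := by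
        have := congrArg (evHom z ⊤ trivial) (minpoly.aeval Γ(Y, ⊤) a)
        rw [map_zero, aeval_def, hom_eval₂] at this
        rw [Polynomial.eval_map, ← this, show (evHom z ⊤ trivial).comp (algebraMap Γ(Y, ⊤) Γ(X, ⊤)) =
          evHom (Pts.map g z) ⊤ trivial from RingHom.ext fun b => (evTop_map g z b).symm]
        rfl
      refine (norm_root_le (hp.map _) h0).trans (le_of_eq ?_)
      simp only [F, hp.natDegree_map, coeff_map]
      rfl
    have hb : ∀ᶠ z in (U : Filter (Pts X)), z.evTop a ∈ Metric.closedBall (0 : ℂ) (F y + 1) := by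
      have := (hF.continuousAt.tendsto.comp hy).eventually (Iio_mem_nhds (lt_add_one (F y)))
      filter_upwards [this] with z hz
      rw [Metric.mem_closedBall, dist_zero_right]
      exact (hev z).trans hz.le
    obtain ⟨c, -, hc⟩ := (isCompact_closedBall (0 : ℂ) (F y + 1)).ultrafilter_le_nhds (U.map fun z : Pts X => z.evTop a)
      (le_principal_iff.2 (Filter.mem_map.2 hb))
    exact ⟨c, hc⟩
  choose L hL using hlim
  have hev : ∀ a, Tendsto (fun z : Pts X => z.evTop a) U (𝓝 (L a)) := hL
  let φ : Γ(X, ⊤) →+* ℂ :=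
    { toFun := L
      map_one' := tendsto_nhds_unique (hev 1) (by
        simp only [show ∀ z : Pts X, z.evTop 1 = 1 from fun z => map_one (evHom z ⊤ trivial)]
        exact tendsto_const_nhds)
      map_mul' := fun a b => tendsto_nhds_unique (hev (a * b)) (by
        simp only [show ∀ z : Pts X, z.evTop (a * b) = z.evTop a * z.evTop b from fun z => map_mul (evHom z ⊤ trivial) a b]
        exact (hev a).mul (hev b))
      map_zero' := tendsto_nhds_unique (hev 0) (by
        simp only [show ∀ z : Pts X, z.evTop 0 = 0 from fun z => map_zero (evHom z ⊤ trivial)]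
        exact tendsto_const_nhds)
      map_add' := fun a b => tendsto_nhds_unique (hev (a + b)) (by
        simp only [show ∀ z : Pts X, z.evTop (a + b) = z.evTop a + z.evTop b from fun z => map_add (evHom z ⊤ trivial) a b]
        exact (hev a).add (hev b)) }
  obtain ⟨x, hx⟩ := exists_of_ringHom φ fun c => tendsto_nhds_unique (hev (strHom X c)) (by
    simp only [evTop_strHom]
    exact tendsto_const_nhds)
  refine ⟨x, ext_of_evTop fun b => ?_, ?_⟩
  · rw [evTop_map, hx]
    refine tendsto_nhds_unique (hev (g.appTop b)) ?_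
    simp only [← evTop_map g]
    exact (((continuous_apply b).comp (isInducing_evTop (X := Y)).continuous).continuousAt.tendsto.comp hy)
  · rw [(isInducing_evTop (X := X)).nhds_eq_comap, ← map_le_iff_le_comap]
    exact tendsto_pi_nhds.2 fun a => by rw [hx a]; exact hev a

theorem finite_fibre_map {X Y : Scheme.{0}} [X.Over SC] [Y.Over SC] [LocallyOfFiniteType (X ↘ SC)]
    (f : X ⟶ Y) [f.IsOver SC] [IsFinite f] (y : Pts Y) : (Pts.map f ⁻¹' {y}).Finite := by
  refine Set.Finite.of_finite_image ((Scheme.Hom.finite_preimage_singleton f y.pt).subset ?_) pt_injective.injOn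
  rintro _ ⟨z, hz, rfl⟩
  rw [Set.mem_preimage, ← pt_map f, hz]
  rfl

theorem isCoveringMap_of_finite_etale {X Y : Scheme.{0}} [X.Over SC] [Y.Over SC] [LocallyOfFiniteType (X ↘ SC)]
    (f : X ⟶ Y) [f.IsOver SC] [IsFinite f] [Etale f] : IsCoveringMap (Pts.map f) := by
  intro y
  obtain ⟨V, hyV, -, hV⟩ := exists_affine_chart (U := ⊤) y trivial
  let U := f ⁻¹ᵁ V
  letI := opensOver U; letI := opensOver V
  haveI : U.ι.IsOver SC := ⟨rfl⟩
  haveI : V.ι.IsOver SC := ⟨rfl⟩
  haveI : IsAffine (V : Scheme) := hV
  haveI : IsAffine (U : Scheme) := hV.preimage f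
  haveI := locallyOfFiniteType_opens U
  let g : (U : Scheme) ⟶ V := f ∣_ V
  haveI : IsFinite g := IsZariskiLocalAtTarget.restrict ‹IsFinite f› V
  haveI : Etale g := IsZariskiLocalAtTarget.restrict ‹Etale f› V
  haveI : g.IsOver SC := ⟨by
    change g ≫ V.ι ≫ (Y ↘ SC) = U.ι ≫ (X ↘ SC)
    rw [morphismRestrict_ι_assoc, comp_over f]⟩
  haveI := t2Space_of_isAffine (X := (U : Scheme))
  have hg : IsCoveringMap (Pts.map g) := by
    rw [isCoveringMap_iff_isCoveringMapOn_univ]
    exact (isProperMap_of_finite_affine g).isClosedMap.isCoveringMapOn_of_isLocalHomeomorphOn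
      (fun w _ => finite_fibre_map g w)
      (by simpa [← isLocalHomeomorph_iff_isLocalHomeomorphOn_univ] using isLocalHomeomorph_map_of_etale g)
  let s : Set (Pts Y) := pt ⁻¹' (V : Set Y)
  have hjU := isOpenEmbedding_map U.ι
  have hjV := isOpenEmbedding_map V.ι
  have hrV : Set.range (Pts.map V.ι) = s := by
    rw [range_map_of_isOpenImmersion, Scheme.Opens.range_ι]
  have hrU : Set.range (Pts.map U.ι) = Pts.map f ⁻¹' s := by
    rw [range_map_of_isOpenImmersion, Scheme.Opens.range_ι]
    ext z
    simp only [s, Set.mem_preimage, pt_map]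
    rfl
  have hs : IsOpen s := V.2.preimage continuous_pt
  let eU : Pts (U : Scheme) ≃ₜ ↥(Pts.map f ⁻¹' s) := hjU.isEmbedding.toHomeomorph.trans (Homeomorph.setCongr hrU)
  let eV : Pts (V : Scheme) ≃ₜ ↥s := hjV.isEmbedding.toHomeomorph.trans (Homeomorph.setCongr hrV)
  have hres : IsCoveringMap (s.restrictPreimage (Pts.map f)) := by
    have h := (hg.homeomorph_comp eV).comp_homeomorph eU.symm
    convert h using 1
    funext z
    obtain ⟨w, rfl⟩ := eU.surjective z
    simp only [Function.comp_apply, Homeomorph.symm_apply_apply]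
    refine Subtype.ext (Subtype.ext ?_)
    change (Pts.map f (Pts.map U.ι w)).1 = (Pts.map V.ι (Pts.map g w)).1
    simp [map_val, g, U]
  exact IsCoveringMapOn.of_isCoveringMap_restrictPreimage _ hs (hs.preimage (continuous_map f)) hres y hyV

end

end Groth.Agent.AnPts
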