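import Mathlib
import Groth.Prelude.Def_AnPts
import Groth.Agent.AnPts.Finite
import Groth.Agent.AffTest.Basic

/-! Properness is read on complex points. -/

set_option autoImplicit false
set_option backward.isDefEq.respectTransparency false
set_option backward.isDefEq.respectTransparency.types false

open AlgebraicGeometry CategoryTheory CategoryTheory.Limits TopologicalSpace Opposite Topology Filter

namespace Groth.Agent.AnPts

open An An.Pts

noncomputable section

section Germ

variable {α : Type} (U : Ultrafilter α)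

/-- The field of germs of complex valued functions along an ultrafilter. -/
abbrev GermK : Type := Filter.Germ (U : Filter α) ℂ

/-- Bounded germs. -/
def boundedGerms : ValuationSubring (GermK U) :=
  ValuationSubring.ofSubring
    { carrier := {g | ∃ C : ℝ, g.LiftPred fun c => ‖c‖ ≤ C}
      one_mem' := ⟨1, Germ.liftPred_coe.2 (Eventually.of_forall fun _ => by simp)⟩
      zero_mem' := ⟨0, Germ.liftPred_coe.2 (Eventually.of_forall fun _ => by simp)⟩
      neg_mem' := fun {g} => Germ.inductionOn g fun a ⟨C, hC⟩ =>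
        ⟨C, Germ.liftPred_coe.2 ((Germ.liftPred_coe.1 hC).mono fun z hz => by simpa using hz)⟩
      mul_mem' := fun {g h} => Germ.inductionOn₂ g h fun a b ⟨C, hC⟩ ⟨D, hD⟩ =>
        ⟨C * D, Germ.liftPred_coe.2 (((Germ.liftPred_coe.1 hC).and (Germ.liftPred_coe.1 hD)).mono fun z hz =>
          (norm_mul_le _ _).trans (mul_le_mul hz.1 hz.2 (norm_nonneg _) ((norm_nonneg _).trans hz.1)))⟩
      add_mem' := fun {g h} => Germ.inductionOn₂ g h fun a b ⟨C, hC⟩ ⟨D, hD⟩ =>
        ⟨C + D, Germ.liftPred_coe.2 (((Germ.liftPred_coe.1 hC).and (Germ.liftPred_coe.1 hD)).mono fun z hz =>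
          (norm_add_le _ _).trans (add_le_add hz.1 hz.2))⟩ }
    fun g => Germ.inductionOn g fun a => by
      rcases U.em (fun z => ‖a z‖ ≤ 1) with h | h
      · exact Or.inl ⟨1, Germ.liftPred_coe.2 h⟩
      · refine Or.inr ⟨1, Germ.liftPred_coe.2 (h.mono fun z hz => ?_)⟩
        simp only [Function.comp_apply, Pi.inv_apply, norm_inv]
        exact inv_le_one_of_one_le₀ (not_le.1 hz).le

theorem coe_mem_boundedGerms {a : α → ℂ} :
    ((a : GermK U) ∈ boundedGerms U) ↔ ∃ C : ℝ, ∀ᶠ z in U, ‖a z‖ ≤ C := Iff.rfl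

theorem tendsto_of_bounded {a : α → ℂ} (h : (a : GermK U) ∈ boundedGerms U) :
    ∃ c : ℂ, Tendsto a U (𝓝 c) := by
  obtain ⟨C, hC⟩ := (coe_mem_boundedGerms U).1 h
  obtain ⟨c, -, hc⟩ := (isCompact_closedBall (0 : ℂ) C).ultrafilter_le_nhds (U.map a)
    (le_principal_iff.2 (Filter.mem_map.2 (hC.mono fun z hz => by simpa using hz)))
  exact ⟨c, hc⟩

theorem bounded_of_tendsto {a : α → ℂ} {c : ℂ} (h : Tendsto a U (𝓝 c)) :
    (a : GermK U) ∈ boundedGerms U := by
  refine (coe_mem_boundedGerms U).2 ⟨‖c‖ + 1, ?_⟩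
  filter_upwards [h.norm.eventually (Iio_mem_nhds (lt_add_one ‖c‖))] with z hz using hz.le

variable {W W' : Scheme.{0}} [W.Over SC] [W'.Over SC]

/-- Evaluation of global functions at a family of points, as germs. -/
def germEv (Q : α → Pts W) : Γ(W, ⊤) →+* GermK U where
  toFun a := ((fun z => (Q z).evTop a : α → ℂ) : GermK U)
  map_one' := by
    simp only [show ∀ z, (Q z).evTop 1 = 1 from fun z => map_one (evHom (Q z) ⊤ trivial)]
    rfl
  map_zero' := by
    simp only [show ∀ z, (Q z).evTop 0 = 0 from fun z => map_zero (evHom (Q z) ⊤ trivial)]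
    rfl
  map_mul' a b := by
    simp only [show ∀ z, (Q z).evTop (a * b) = (Q z).evTop a * (Q z).evTop b from
      fun z => map_mul (evHom (Q z) ⊤ trivial) a b]
    rfl
  map_add' a b := by
    simp only [show ∀ z, (Q z).evTop (a + b) = (Q z).evTop a + (Q z).evTop b from
      fun z => map_add (evHom (Q z) ⊤ trivial) a b]
    rfl

theorem germEv_congr {Q Q' : α → Pts W} (h : Q =ᶠ[(U : Filter α)] Q') : germEv U Q = germEv U Q' :=
  RingHom.ext fun a => Germ.coe_eq.2 (h.mono fun z hz => by simp only [hz])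

variable [IsAffine W] [IsAffine W']

/-- The nonstandard point of an affine scheme given by a family of complex points. -/
def germPt (Q : α → Pts W) : Spec (CommRingCat.of (GermK U)) ⟶ W :=
  Spec.map (CommRingCat.ofHom (germEv U Q)) ≫ W.isoSpec.inv

theorem germPt_comp (Q : α → Pts W) (k : W ⟶ W') [k.IsOver SC] :
    germPt U Q ≫ k = germPt U (fun z => Pts.map k (Q z)) := by
  rw [germPt, germPt, Category.assoc, ← Scheme.isoSpec_inv_naturality, ← Spec.map_comp_assoc]
  congr 2

theorem appTop_germPt (Q : α → Pts W) :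
    (germPt U Q).appTop ≫ (Scheme.ΓSpecIso _).hom = CommRingCat.ofHom (germEv U Q) := by
  have hi : W.isoSpec.inv.appTop = (Scheme.ΓSpecIso Γ(W, ⊤)).inv := by
    rw [← cancel_mono W.isoSpec.hom.appTop, ← Scheme.Hom.comp_appTop, Iso.hom_inv_id]
    change _ = _ ≫ W.toSpecΓ.appTop
    rw [Scheme.toSpecΓ_appTop, Iso.inv_hom_id]
    rfl
  rw [germPt, Scheme.Hom.comp_appTop, hi, Category.assoc, Scheme.ΓSpecIso_naturality]
  exact Iso.inv_hom_id_assoc _ _

theorem exists_tendsto (Q : α → Pts W) (h : ∀ a, germEv U Q a ∈ boundedGerms U) :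
    ∃ w : Pts W, Tendsto Q U (𝓝 w) := by
  choose L hL using fun a => tendsto_of_bounded U (h a)
  have hev : ∀ a, Tendsto (fun z => (Q z).evTop a) U (𝓝 (L a)) := hL
  let φ : Γ(W, ⊤) →+* ℂ :=
    { toFun := L
      map_one' := tendsto_nhds_unique (hev 1) (by
        simp only [show ∀ z, (Q z).evTop 1 = 1 from fun z => map_one (evHom (Q z) ⊤ trivial)]
        exact tendsto_const_nhds)
      map_mul' := fun a b => tendsto_nhds_unique (hev (a * b)) (by
        simp only [show ∀ z, (Q z).evTop (a * b) = (Q z).evTop a * (Q z).evTop b from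
          fun z => map_mul (evHom (Q z) ⊤ trivial) a b]
        exact (hev a).mul (hev b))
      map_zero' := tendsto_nhds_unique (hev 0) (by
        simp only [show ∀ z, (Q z).evTop 0 = 0 from fun z => map_zero (evHom (Q z) ⊤ trivial)]
        exact tendsto_const_nhds)
      map_add' := fun a b => tendsto_nhds_unique (hev (a + b)) (by
        simp only [show ∀ z, (Q z).evTop (a + b) = (Q z).evTop a + (Q z).evTop b from
          fun z => map_add (evHom (Q z) ⊤ trivial) a b]
        exact (hev a).add (hev b)) }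
  obtain ⟨w, hw⟩ := exists_of_ringHom φ fun c => tendsto_nhds_unique (hev (strHom W c)) (by
    simp only [evTop_strHom]
    exact tendsto_const_nhds)
  refine ⟨w, ?_⟩
  rw [(isInducing_evTop (X := W)).nhds_eq_comap, tendsto_comap_iff]
  exact tendsto_pi_nhds.2 fun a => by rw [hw a]; exact hev a

end Germ

section Main

variable {X Y : Scheme.{0}} [X.Over SC] [Y.Over SC]

theorem exists_lift_family {α : Type} (U : Ultrafilter α) (P : α → Pts X) (W : X.Opens)
    (h : ∀ᶠ z in U, (P z).pt ∈ W) :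
    letI := opensOver W; haveI : W.ι.IsOver SC := ⟨rfl⟩
    ∃ Q : α → Pts (W : Scheme), ∀ᶠ z in U, Pts.map W.ι (Q z) = P z := by
  letI := opensOver W
  haveI : W.ι.IsOver SC := ⟨rfl⟩
  have hr : ∀ z, (P z).pt ∈ W → ∃ w, Pts.map W.ι w = P z := fun z hz => by
    have : P z ∈ Set.range (Pts.map W.ι) := by
      rw [range_map_of_isOpenImmersion, Set.mem_preimage, Scheme.Opens.range_ι]; exact hz
    exact this
  obtain ⟨z₀, hz₀⟩ := h.exists
  haveI : Nonempty (Pts (W : Scheme)) := ⟨(hr z₀ hz₀).choose⟩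
  classical
  exact ⟨fun z => if hz : (P z).pt ∈ W then (hr z hz).choose else Classical.arbitrary _,
    h.mono fun z hz => by simp only [dif_pos hz]; exact (hr z hz).choose_spec⟩

theorem isOver_homOfLE {W W' : X.Opens} (h : W ≤ W') :
    letI := opensOver W; letI := opensOver W'
    (X.homOfLE h).IsOver SC :=
  letI := opensOver W; letI := opensOver W'
  ⟨by
    change X.homOfLE h ≫ W'.ι ≫ (X ↘ SC) = W.ι ≫ (X ↘ SC)
    rw [Scheme.homOfLE_ι_assoc]⟩

theorem isOver_resLE (f : X ⟶ Y) [f.IsOver SC] {V : Y.Opens} {W : X.Opens} (e : W ≤ f ⁻¹ᵁ V) :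
    letI := opensOver W; letI := opensOver V
    (f.resLE V W e).IsOver SC :=
  letI := opensOver W; letI := opensOver V
  ⟨by
    change f.resLE V W e ≫ V.ι ≫ (Y ↘ SC) = W.ι ≫ (X ↘ SC)
    rw [Scheme.Hom.resLE_comp_ι_assoc, comp_over f]⟩

variable [LocallyOfFiniteType (X ↘ SC)] [LocallyOfFiniteType (Y ↘ SC)]

theorem isProperMap_of_universallyClosed (f : X ⟶ Y) [f.IsOver SC] [UniversallyClosed f] :
    IsProperMap (Pts.map f) := by
  rw [isProperMap_iff_ultrafilter]
  refine ⟨continuous_map f, fun U y hy => ?_⟩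
  obtain ⟨V, hyV, -, hV⟩ := exists_affine_chart (U := ⊤) y trivial
  letI := opensOver V
  haveI : V.ι.IsOver SC := ⟨rfl⟩
  haveI : IsAffine (V : Scheme) := hV
  haveI := locallyOfFiniteType_opens V
  obtain ⟨yV, hyV'⟩ : y ∈ Set.range (Pts.map V.ι) := by
    rw [range_map_of_isOpenImmersion, Set.mem_preimage, Scheme.Opens.range_ι]; exact hyV
  have hUV : ∀ᶠ z in (U : Filter (Pts X)), z.pt ∈ f ⁻¹ᵁ V := by
    have := hy.eventually ((V.isOpen.preimage continuous_pt).mem_nhds hyV)
    filter_upwards [this] with z hz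
    change f z.pt ∈ V
    rw [← pt_map f]
    exact hz
  -- a chart containing almost every point
  obtain ⟨W, hW, hWV, hUW⟩ : ∃ W : X.Opens, IsAffineOpen W ∧ W ≤ f ⁻¹ᵁ V ∧
      ∀ᶠ z in (U : Filter (Pts X)), z.pt ∈ W := by
    obtain ⟨ι, hι, hcov⟩ := isCompact_and_isOpen_iff_finite_and_eq_biUnion_affineOpens.1
      ⟨f.isCompact_preimage hV.isCompact, (f ⁻¹ᵁ V).isOpen⟩
    have : (⋃ i ∈ ι, {z : Pts X | z.pt ∈ (i : X.Opens)}) ∈ U := by
      refine mem_of_superset hUV fun z hz => ?_
      have := hcov.le hz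
      simpa using this
    obtain ⟨i, hi, hi'⟩ := (Ultrafilter.finite_biUnion_mem_iff hι).1 this
    exact ⟨i, i.2, fun a ha => hcov.ge (Set.mem_biUnion hi ha), hi'⟩
  letI := opensOver W
  haveI : W.ι.IsOver SC := ⟨rfl⟩
  haveI : IsAffine (W : Scheme) := hW
  obtain ⟨Q, hQ⟩ := exists_lift_family U id W hUW
  haveI := isOver_resLE f hWV
  -- the family below is bounded on the base
  have hlimV : Tendsto (fun z => Pts.map (f.resLE V W hWV) (Q z)) U (𝓝 yV) := by
    rw [(isOpenEmbedding_map V.ι).isInducing.tendsto_nhds_iff, hyV']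
    refine hy.congr' (hQ.mono fun z hz => ?_)
    simp only [Function.comp_apply]
    conv_lhs => rw [show z = Pts.map W.ι (Q z) from hz.symm]
    exact Subtype.ext (by simp [map_val])
  let O := boundedGerms U
  have hb : ∀ b, germEv U (fun z => Pts.map (f.resLE V W hWV) (Q z)) b ∈ O := fun b =>
    bounded_of_tendsto U ((((continuous_apply b).comp (isInducing_evTop (X := (V : Scheme))).continuous).tendsto yV).comp hlimV)
  let ρ : CommRingCat.of Γ((V : Scheme), ⊤) ⟶ CommRingCat.of O :=
    CommRingCat.ofHom ((germEv U (fun z => Pts.map (f.resLE V W hWV) (Q z))).codRestrict O.toSubring hb)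
  let inc : CommRingCat.of O ⟶ CommRingCat.of (GermK U) := CommRingCat.ofHom (algebraMap O (GermK U))
  let η := germPt U Q ≫ W.ι
  have hsq : η ≫ f = Spec.map inc ≫ (Spec.map ρ ≫ (V : Scheme).isoSpec.inv ≫ V.ι) := by
    rw [Category.assoc, ← Scheme.Hom.resLE_comp_ι f hWV, ← Category.assoc, germPt_comp, germPt,
      ← Spec.map_comp_assoc, Category.assoc]
    rfl
  have hex : ValuativeCriterion.Existence f := by
    have : UniversallyClosed f := inferInstance
    rw [UniversallyClosed.eq_valuativeCriterion] at this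
    exact this.1
  obtain ⟨⟨⟨l, hl₁, hl₂⟩⟩⟩ := hex { R := O, K := GermK U, i₁ := η, i₂ := Spec.map ρ ≫ (V : Scheme).isoSpec.inv ≫ V.ι, commSq := ⟨hsq⟩ }
  dsimp only at hl₁ hl₂
  -- a chart around the limit
  have hlV : ∀ q, l q ∈ f ⁻¹ᵁ V := fun q => by
    change f (l q) ∈ V
    rw [← Scheme.Hom.comp_apply, hl₂]
    exact (V.range_ι).le ⟨_, rfl⟩
  obtain ⟨W', hW', hlW', hW'V⟩ : ∃ W' : X.Opens, IsAffineOpen W' ∧ l (IsLocalRing.closedPoint O) ∈ W' ∧ W' ≤ f ⁻¹ᵁ V := by
    obtain ⟨_, ⟨W', hW', rfl⟩, h1, h2⟩ := X.isBasis_affineOpens.exists_subset_of_mem_open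
      (hlV (IsLocalRing.closedPoint O)) (f ⁻¹ᵁ V).isOpen
    exact ⟨W', hW', h1, h2⟩
  letI := opensOver W'
  haveI : W'.ι.IsOver SC := ⟨rfl⟩
  haveI : IsAffine (W' : Scheme) := hW'
  have hrange : Set.range l ⊆ Set.range W'.ι := by
    rintro _ ⟨q, rfl⟩
    rw [Scheme.Opens.range_ι]
    exact ((IsLocalRing.specializes_closedPoint q).map l.continuous).mem_open W'.isOpen hlW'
  let l' := IsOpenImmersion.lift W'.ι l hrange
  have hl' : l' ≫ W'.ι = l := IsOpenImmersion.lift_fac _ _ _
  -- almost every point lies in a common basic open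
  let q₀ : ↥(Spec (CommRingCat.of (GermK U))) := IsLocalRing.closedPoint (GermK U)
  let p₀ := germPt U Q q₀
  have hp₀ : W.ι p₀ ∈ W' := by
    rw [← Scheme.Hom.comp_apply, show germPt U Q ≫ W.ι = η from rfl, ← hl₁, ← hl', ← Category.assoc,
      Scheme.Hom.comp_apply]
    exact (W'.range_ι).le ⟨_, rfl⟩
  obtain ⟨g, hgW', hpg⟩ := (isAffineOpen_top (W : Scheme)).exists_basicOpen_le (V := W.ι ⁻¹ᵁ W') ⟨p₀, hp₀⟩ trivial
  have hg0 : germEv U Q g ≠ 0 := by
    intro h0
    have h1 : q₀ ∈ germPt U Q ⁻¹ᵁ (W : Scheme).basicOpen g := hpg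
    rw [Scheme.preimage_basicOpen_top] at h1
    have h2 : (germPt U Q).appTop g = 0 := by
      apply (ConcreteCategory.bijective_of_isIso (Scheme.ΓSpecIso (CommRingCat.of (GermK U))).hom).1
      rw [map_zero, ← h0]
      exact ConcreteCategory.congr_hom (appTop_germPt U Q) g
    rw [h2] at h1
    simp at h1
  have hgae : ∀ᶠ z in (U : Filter (Pts X)), (Q z).evTop g ≠ 0 :=
    Ultrafilter.eventually_not.2 fun h => hg0 (Germ.coe_eq.2 h)
  have hQD : ∀ᶠ z in (U : Filter (Pts X)), (Q z).pt ∈ (W : Scheme).basicOpen g :=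
    hgae.mono fun z hz => (mem_basicOpen_iff (Q z) g).2 hz
  let D := (W : Scheme).basicOpen g
  letI := opensOver D
  haveI : D.ι.IsOver SC := ⟨rfl⟩
  haveI : IsAffine (D : Scheme) := (isAffineOpen_top (W : Scheme)).basicOpen g
  obtain ⟨QD, hQDe⟩ := exists_lift_family U Q D hQD
  have hDW' : Set.range (D.ι ≫ W.ι) ⊆ Set.range W'.ι := by
    rintro _ ⟨q, rfl⟩
    rw [Scheme.Opens.range_ι, Scheme.Hom.comp_apply]
    exact hgW' ((D.range_ι).le ⟨q, rfl⟩)
  let k := IsOpenImmersion.lift W'.ι (D.ι ≫ W.ι) hDW'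
  have hk : k ≫ W'.ι = D.ι ≫ W.ι := IsOpenImmersion.lift_fac _ _ _
  haveI : k.IsOver SC := ⟨by
    change k ≫ W'.ι ≫ (X ↘ SC) = D.ι ≫ W.ι ≫ (X ↘ SC)
    rw [← Category.assoc, hk, Category.assoc]⟩
  let Q' := fun z => Pts.map k (QD z)
  have hQ' : ∀ᶠ z in (U : Filter (Pts X)), Pts.map W'.ι (Q' z) = z := by
    filter_upwards [hQ, hQDe] with z hz hz'
    conv_rhs => rw [show z = Pts.map W.ι (Q z) from hz.symm, ← hz']
    exact Subtype.ext (by simp [Q', map_val, hk])
  have hη : germPt U Q' = Spec.map inc ≫ l' := by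
    rw [← cancel_mono W'.ι, Category.assoc, hl', ← germPt_comp, Category.assoc, hk, ← Category.assoc,
      germPt_comp, germPt, germEv_congr U hQDe]
    exact hl₁.symm
  have hb' : ∀ a, germEv U Q' a ∈ O := by
    intro a
    have h1 := ConcreteCategory.congr_hom (appTop_germPt U Q') a
    rw [hη, Scheme.Hom.comp_appTop, Category.assoc, Scheme.ΓSpecIso_naturality] at h1
    change germEv U Q' a ∈ O
    rw [show germEv U Q' a = CommRingCat.ofHom (germEv U Q') a from rfl, ← h1]
    exact ((Scheme.ΓSpecIso (CommRingCat.of O)).hom (l'.appTop a)).2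
  obtain ⟨w, hw⟩ := exists_tendsto U Q' hb'
  have hx : Tendsto (fun z : Pts X => z) U (𝓝 (Pts.map W'.ι w)) :=
    (((continuous_map W'.ι).tendsto w).comp hw).congr' (hQ'.mono fun z hz => hz)
  refine ⟨Pts.map W'.ι w, ?_, hx⟩
  haveI := t2Space_of_isAffine (X := (V : Scheme))
  have hW'V' : W' ≤ f ⁻¹ᵁ V := hW'V
  haveI := isOver_resLE f hW'V'
  have hcomp : ∀ u, Pts.map V.ι (Pts.map (f.resLE V W' hW'V') u) = Pts.map f (Pts.map W'.ι u) := fun u =>
    Subtype.ext (by simp [map_val])
  have h2 : Pts.map (f.resLE V W' hW'V') w = yV := by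
    refine tendsto_nhds_unique (((continuous_map (f.resLE V W' hW'V')).tendsto w).comp hw) ?_
    rw [(isOpenEmbedding_map V.ι).isInducing.tendsto_nhds_iff, hyV']
    refine hy.congr' (hQ'.mono fun z hz => ?_)
    simp only [Function.comp_apply]
    rw [hcomp, hz]
  rw [← hcomp, h2, hyV']

theorem universallyClosed_of_isProperMap (f : X ⟶ Y) [f.IsOver SC] [QuasiCompact f]
    (h : IsProperMap (Pts.map f)) : UniversallyClosed f := by
  refine (AffTest.universallyClosed_iff_snd f).2 fun n => ?_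
  let t := (𝔸(ULift.{0} (Fin n); Y) ↘ Y)
  letI : (𝔸(ULift.{0} (Fin n); Y)).Over SC := ⟨t ≫ (Y ↘ SC)⟩
  haveI : t.IsOver SC := ⟨rfl⟩
  haveI : LocallyOfFiniteType (𝔸(ULift.{0} (Fin n); Y) ↘ SC) := inferInstanceAs (LocallyOfFiniteType (t ≫ (Y ↘ SC)))
  haveI : LocallyOfFiniteType t := inferInstance
  haveI := locallyOfFiniteType_pullback f t
  let p := pullback.snd f t
  haveI := locallyOfFiniteType_of_isOver p
  -- the points of the base change are proper over the points of the base
  have hp : IsProperMap (Pts.map p) := by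
    rw [isProperMap_iff_ultrafilter]
    refine ⟨continuous_map p, fun U w hw => ?_⟩
    have h1 : Tendsto (Pts.map f) (U.map (Pts.map (pullback.fst f t))) (𝓝 (Pts.map t w)) := by
      rw [Ultrafilter.coe_map, tendsto_map'_iff]
      refine (((continuous_map t).tendsto w).comp hw).congr fun z => ?_
      exact (Pts.map_pullback_condition f t z).symm
    obtain ⟨x, hxw, hx⟩ := h.ultrafilter_le_nhds_of_tendsto h1
    have hhom := isHomeomorph_pullback f t
    obtain ⟨z, hz⟩ := hhom.surjective ⟨(x, w), hxw⟩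
    have hz' := congrArg Subtype.val hz
    refine ⟨z, congrArg Prod.snd hz', ?_⟩
    rw [hhom.isInducing.nhds_eq_comap, nhds_subtype_eq_comap, Filter.comap_comap, ← Filter.map_le_iff_le_comap]
    simp only [Function.comp_def]
    rw [show ((Pts.map (pullback.fst f t) z, Pts.map (pullback.snd f t) z)) = (x, w) from hz']
    exact Tendsto.prodMk_nhds hx hw
  intro Z hZ
  haveI : IsLocallyNoetherian (𝔸(ULift.{0} (Fin n); Y)) := LocallyOfFiniteType.isLocallyNoetherian (_ ↘ SC)
  haveI : LocallyOfFinitePresentation p := by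
    refine ⟨fun {V} hV {U} hU e => ?_⟩
    haveI : IsNoetherianRing Γ(𝔸(ULift.{0} (Fin n); Y), V) := IsLocallyNoetherian.component_noetherian ⟨V, hV⟩
    exact RingHom.FinitePresentation.of_finiteType.mp (p.finiteType_appLE hV hU e)
  rw [isClosed_iff (p.isLocallyConstructible_image (isLocallyConstructible_of_isClosed hZ))]
  have : (pt ⁻¹' (p '' Z) : Set (Pts 𝔸(ULift.{0} (Fin n); Y))) = Pts.map p '' (pt ⁻¹' Z) := by
    ext w
    constructor
    · rintro ⟨z₀, hz₀, hz₀w⟩
      obtain ⟨a, haZ, ha⟩ := exists_pts_mem (Z := Z ∩ p ⁻¹' {w.pt})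
        (hZ.inter ((isClosed_pt w).preimage p.continuous)).isLocallyClosed ⟨z₀, hz₀, hz₀w⟩
      exact ⟨a, haZ, pt_injective ((pt_map p a).trans ha)⟩
    · rintro ⟨a, ha, rfl⟩
      exact ⟨a.pt, ha, (pt_map p a).symm⟩
  rw [this]
  exact hp.isClosedMap _ (hZ.preimage continuous_pt)

theorem isProper_iff (f : X ⟶ Y) [f.IsOver SC] [QuasiCompact f] :
    IsProper f ↔ IsProperMap (Pts.map f) ∧ IsSeparatedMap (Pts.map f) := by
  rw [← isSeparated_iff]
  constructor
  · intro _
    exact ⟨isProperMap_of_universallyClosed f, inferInstance⟩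
  · rintro ⟨h, hs⟩
    haveI := locallyOfFiniteType_of_isOver f
    haveI := universallyClosed_of_isProperMap f h
    exact { }

theorem isFinite_iff (f : X ⟶ Y) [f.IsOver SC] [QuasiCompact f] :
    IsFinite f ↔ IsProperMap (Pts.map f) ∧ IsSeparatedMap (Pts.map f) ∧
      ∀ y : Pts Y, (Pts.map f ⁻¹' {y}).Finite := by
  constructor
  · intro _
    exact ⟨((isProper_iff f).1 inferInstance).1, ((isProper_iff f).1 inferInstance).2, finite_fibre_map f⟩
  · rintro ⟨h1, h2, h3⟩
    haveI := (isProper_iff f).2 ⟨h1, h2⟩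
    haveI : LocallyQuasiFinite f := by
      rw [← Scheme.Hom.quasiFiniteLocus_eq_top_iff]
      haveI := jacobsonSpace (X := X)
      by_contra hne
      obtain ⟨a, ha⟩ := exists_pts_mem (Z := ((f.quasiFiniteLocus : X.Opens) : Set X)ᶜ)
        f.quasiFiniteLocus.isOpen.isClosed_compl.isLocallyClosed (by
          rw [Set.nonempty_compl]
          exact fun h => hne (SetLike.coe_injective h))
      refine ha (Scheme.Hom.quasiFiniteAt_iff_isOpen_singleton_asFiber.2 ?_)
      rw [← (f.fiberHomeo (f a.pt)).isOpen_image, Set.image_singleton]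
      -- the fibre is a finite set of closed points
      have hfib : f ⁻¹' {f a.pt} = pt '' (Pts.map f ⁻¹' {Pts.map f a}) := by
        have hcl : IsClosed (pt '' (Pts.map f ⁻¹' {Pts.map f a})) := by
          rw [← Set.biUnion_of_singleton (pt '' (Pts.map f ⁻¹' {Pts.map f a}))]
          refine Set.Finite.isClosed_biUnion (f := fun x => ({x} : Set X)) ((h3 _).image pt) ?_
          rintro _ ⟨b, -, rfl⟩
          exact isClosed_pt b
        have hfc : IsClosed (f ⁻¹' {f a.pt}) := by
          rw [← pt_map f]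
          exact (isClosed_pt (Pts.map f a)).preimage f.continuous
        refine subset_antisymm ?_ ?_
        · by_contra hsub
          obtain ⟨b, hb, hb'⟩ := exists_pts_mem (Z := f ⁻¹' {f a.pt} \ pt '' (Pts.map f ⁻¹' {Pts.map f a}))
            (hfc.isLocallyClosed.inter
              hcl.isOpen_compl.isLocallyClosed) (Set.sdiff_nonempty.2 hsub)
          exact hb' ⟨b, pt_injective (by rw [pt_map, pt_map]; exact hb), rfl⟩
        · rintro _ ⟨b, hb, rfl⟩
          change f b.pt = f a.pt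
          rw [← pt_map f, ← pt_map f]
          exact congrArg pt hb
      haveI : Finite ↥(f ⁻¹' {f a.pt}) := by rw [hfib]; exact ((h3 _).image pt).to_subtype
      haveI : T1Space ↥(f ⁻¹' {f a.pt}) := ⟨fun q => by
        obtain ⟨b, -, hb⟩ := hfib.le q.2
        have := (isClosed_pt b).preimage (continuous_subtype_val (p := fun x => x ∈ f ⁻¹' {f a.pt}))
        convert this using 1
        ext r
        simp [hb, Subtype.ext_iff]⟩
      exact isOpen_discrete _
    exact IsFinite.of_isProper_of_locallyQuasiFinite f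

theorem isProper_str_iff [QuasiCompact (X ↘ SC)] :
    IsProper (X ↘ SC) ↔ CompactSpace (Pts X) ∧ T2Space (Pts X) := by
  haveI := isOver_str X
  haveI : LocallyOfFiniteType (SC ↘ SC) := by rw [SC_over_SC]; infer_instance
  rw [isProper_iff]
  have hsub : Subsingleton (Pts SC) := ⟨fun a b => Subtype.ext (by
    have ha := a.2
    have hb := b.2
    exact ((Category.comp_id _).symm.trans ((congrArg (fun m => a.1 ≫ m) SC_over_SC.symm).trans ha)).trans
      ((Category.comp_id _).symm.trans ((congrArg (fun m => b.1 ≫ m) SC_over_SC.symm).trans hb)).symm)⟩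
  let pSC : Pts SC := ⟨𝟙 SC, (Category.id_comp _).trans SC_over_SC⟩
  refine and_congr ⟨fun h => ⟨?_⟩, fun h => (continuous_map (X ↘ SC)).isProperMap⟩
    ⟨fun h => ⟨fun a b hab => h a b (Subsingleton.elim _ _) hab⟩, fun h a b _ hab => t2_separation hab⟩
  have := h.isCompact_preimage (isCompact_singleton (x := pSC))
  convert this
  exact (Set.eq_univ_of_forall fun x => Subsingleton.elim _ _).symm

end Main

end

end Groth.Agent.AnPts
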